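import Cfsg.Agent.Omega.NO3S.SN.R1.Def
import Cfsg.Agent.MinSimple.VModule

/-!
# THEOREM R1 (helper430 #22327): elementary facts on `Cl`, `V_Γ`, `Y_Γ = C_G(V_Γ)`, `U_Γ = ⟨V^{Y_Γ}⟩`
-/

set_option autoImplicit false

namespace Cfsg.Agent.Omega.NO3S.SN.R1

open Subgroup Cfsg Cfsg.Agent.ZN Cfsg.Agent.Omega.S5.Def
open Cfsg.Agent.Omega.FFThm (ElemM)
open Cfsg.Agent.MinSimple.VModule

universe u

variable {G : Type u} [Group G]

/-! ### `Cl` -/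

section Cl

theorem Cl_le {V R U : Subgroup G} (hV : V ≤ U) (hR : R ≤ normalizer (U : Set G)) : Cl V R ≤ U := by
  rw [Cl, closure_le]
  rintro _ ⟨g, hg, w, hw, rfl⟩
  exact (mem_normalizer_iff.1 (hR hg) w).1 (hV hw)

theorem le_Cl (V R : Subgroup G) : V ≤ Cl V R := fun v hv => subset_closure ⟨1, one_mem _, v, hv, by group⟩

theorem conj_mem_Cl {V R : Subgroup G} {g v : G} (hg : g ∈ R) (hv : v ∈ V) : g * v * g⁻¹ ∈ Cl V R :=
  subset_closure ⟨g, hg, v, hv, rfl⟩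

theorem Cl_mono {V R S : Subgroup G} (h : R ≤ S) : Cl V R ≤ Cl V S :=
  closure_mono fun _ ⟨g, hg, w, hw, he⟩ => ⟨g, h hg, w, hw, he⟩

theorem le_normalizer_Cl (V R : Subgroup G) : R ≤ normalizer (Cl V R : Set G) := by
  have key : ∀ g ∈ R, ∀ x ∈ Cl V R, g * x * g⁻¹ ∈ Cl V R := by
    intro g hg x hx
    have h1 : (Cl V R).map (MulAut.conj g).toMonoidHom ≤ Cl V R := by
      rw [Cl, MonoidHom.map_closure, closure_le]
      rintro _ ⟨_, ⟨k, hk, w, hw, rfl⟩, rfl⟩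
      refine subset_closure ⟨g * k, mul_mem hg hk, w, hw, ?_⟩
      change g * (k * w * k⁻¹) * g⁻¹ = g * k * w * (g * k)⁻¹
      group
    exact h1 ⟨x, hx, rfl⟩
  intro g hg
  rw [mem_normalizer_iff]
  refine fun x => ⟨key g hg x, fun hx => ?_⟩
  have h2 := key g⁻¹ (inv_mem hg) _ hx
  have e : g⁻¹ * (g * x * g⁻¹) * g⁻¹⁻¹ = x := by group
  rwa [e] at h2

end Cl

/-! ### `VG`, `YG` -/

section VG

variable {n : ℕ} {V : Subgroup G} {L : Subgroup G} {ε : (Fin n → ZMod 2) → G}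

theorem Cst.add {Γ : Finset (Fin n)} {x y : Fin n → ZMod 2} (hx : Cst Γ x) (hy : Cst Γ y) : Cst Γ (x + y) := by
  intro i hi j hj
  rw [Pi.add_apply, Pi.add_apply, hx i hi j hj, hy i hi j hj]

theorem Cst.mono {Γ Δ : Finset (Fin n)} (h : Γ ⊆ Δ) {x : Fin n → ZMod 2} (hx : Cst Δ x) : Cst Γ x :=
  fun i hi j hj => hx i (h hi) j (h hj)

theorem cst_zero (Γ : Finset (Fin n)) : Cst Γ (0 : Fin n → ZMod 2) := fun _ _ _ _ => rfl

theorem cst_one (Γ : Finset (Fin n)) : Cst Γ (1 : Fin n → ZMod 2) := fun _ _ _ _ => rfl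

theorem cst_single {Γ : Finset (Fin n)} {m : Fin n} (hm : m ∉ Γ) : Cst Γ (Pi.single m 1 : Fin n → ZMod 2) := by
  intro i hi j hj
  have h1 : i ≠ m := fun e => hm (e ▸ hi)
  have h2 : j ≠ m := fun e => hm (e ▸ hj)
  rw [Pi.single_eq_of_ne h1, Pi.single_eq_of_ne h2]

theorem mem_VG (ev : EvenSet n V L ε) {Γ : Finset (Fin n)} {v : G} :
    v ∈ VG ε Γ ↔ ∃ x, Cst Γ x ∧ ε x = v := by
  constructor
  · intro hv
    refine closure_induction (p := fun y _ => ∃ x, Cst Γ x ∧ ε x = y) ?_ ?_ ?_ ?_ hv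
    · rintro y ⟨x, hx, rfl⟩
      exact ⟨x, hx, rfl⟩
    · exact ⟨0, cst_zero Γ, ev.zero⟩
    · rintro _ _ _ _ ⟨x, hx, rfl⟩ ⟨y, hy, rfl⟩
      exact ⟨x + y, hx.add hy, ev.add x y⟩
    · rintro _ _ ⟨x, hx, rfl⟩
      exact ⟨x, hx, (ev.inv x).symm⟩
  · rintro ⟨x, hx, rfl⟩
    exact subset_closure ⟨x, hx, rfl⟩

theorem mem_VG_iff (ev : EvenSet n V L ε) {Γ : Finset (Fin n)} {x : Fin n → ZMod 2} :
    ε x ∈ VG ε Γ ↔ Cst Γ x := by
  rw [mem_VG ev]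
  constructor
  · rintro ⟨y, hy, he⟩
    rcases ev.eq_iff.1 he with h1 | h1
    · rwa [← h1]
    · have h2 : x = y + 1 := by rw [h1, add_assoc, add_self, add_zero]
      rw [h2]
      exact hy.add (cst_one Γ)
  · exact fun h => ⟨x, h, rfl⟩

theorem VG_le (ev : EvenSet n V L ε) (Γ : Finset (Fin n)) : VG ε Γ ≤ V := by
  intro v hv
  obtain ⟨x, -, rfl⟩ := (mem_VG ev).1 hv
  exact ev.mem x

theorem VG_anti (ε : (Fin n → ZMod 2) → G) {Γ Δ : Finset (Fin n)} (h : Γ ⊆ Δ) : VG ε Δ ≤ VG ε Γ :=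
  closure_mono fun _ ⟨x, hx, he⟩ => ⟨x, hx.mono h, he⟩

theorem YG_mono (ε : (Fin n → ZMod 2) → G) {Γ Δ : Finset (Fin n)} (h : Γ ⊆ Δ) : YG ε Γ ≤ YG ε Δ :=
  centralizer_le (VG_anti ε h)

theorem UG_mono (V : Subgroup G) (ε : (Fin n → ZMod 2) → G) {Γ Δ : Finset (Fin n)} (h : Γ ⊆ Δ) :
    UG V ε Γ ≤ UG V ε Δ := Cl_mono (YG_mono ε h)

theorem mem_YG (ev : EvenSet n V L ε) {Γ : Finset (Fin n)} {g : G} :
    g ∈ YG ε Γ ↔ ∀ x, Cst Γ x → g * ε x * g⁻¹ = ε x := by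
  unfold YG
  rw [mem_centralizer_iff]
  constructor
  · intro h x hx
    rw [← h _ ((mem_VG_iff ev).2 hx), mul_inv_cancel_right]
  · intro h v hv
    obtain ⟨x, hx, rfl⟩ := (mem_VG ev).1 hv
    calc ε x * g = g * ε x * g⁻¹ * g := by rw [h x hx]
      _ = g * ε x := by group

theorem centralizer_le_YG (ev : EvenSet n V L ε) (Γ : Finset (Fin n)) : centralizer (V : Set G) ≤ YG ε Γ :=
  centralizer_le (VG_le ev Γ)

/-- a permutation of the letters in `Γ` is induced by an element of `C_G(V_Γ)` -/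
theorem mem_YG_of_acts (ev : EvenSet n V L ε) {Γ : Finset (Fin n)} {g : G} {σ : Equiv.Perm (Fin n)}
    (hσ : Acts ε g σ) (hf : ∀ m, m ∉ Γ → σ m = m) : g ∈ YG ε Γ := by
  rw [mem_YG ev]
  intro x hx
  rw [hσ x]
  congr 1
  have hf' : ∀ m, m ∉ Γ → σ.symm m = m := by
    intro m hm
    rw [Equiv.symm_apply_eq, hf m hm]
  funext m
  change x (σ.symm m) = x m
  by_cases hm : m ∈ Γ
  · have h1 : σ.symm m ∈ Γ := by
      by_contra h2
      have h3 := hf _ h2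
      rw [Equiv.apply_symm_apply] at h3
      rw [← h3] at h2
      exact h2 hm
    exact hx _ h1 _ hm
  · rw [hf' m hm]

/-- an element of `C_G(V_Γ)` which normalises `V` permutes the letters in `Γ` -/
theorem acts_fix (ev : EvenSet n V L ε) (hn : 3 ≤ n) {Γ : Finset (Fin n)} {g : G} {σ : Equiv.Perm (Fin n)}
    (hσ : Acts ε g σ) (hg : g ∈ YG ε Γ) {m : Fin n} (hm : m ∉ Γ) : σ m = m := by
  refine ev.single_inj hn ?_
  rw [← hσ.single]
  exact (mem_YG ev).1 hg _ (cst_single hm)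

/-- the only heavy vector of `z_k V_Γ` is `z_k` -/
theorem eq_of_mem_VG (ev : EvenSet n V L ε) {Γ : Finset (Fin n)} (hΓ : 3 ≤ Γ.card) {m k : Fin n} (hk : k ∈ Γ)
    (h : zz ε m * zz ε k ∈ VG ε Γ) : m = k := by
  by_contra hne
  have h1 : zz ε m * zz ε k = ε (Pi.single m 1 + Pi.single k 1) := (ev.add _ _).symm
  rw [h1, mem_VG_iff ev] at h
  obtain ⟨l, hl, hl2⟩ : ∃ l ∈ Γ, l ∉ ({m, k} : Finset (Fin n)) :=
    Finset.exists_mem_notMem_of_card_lt_card (lt_of_le_of_lt Finset.card_le_two (by omega))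
  simp only [Finset.mem_insert, Finset.mem_singleton, not_or] at hl2
  have h2 := h k hk l hl
  rw [Pi.add_apply, Pi.add_apply, Pi.single_eq_same, Pi.single_eq_of_ne (Ne.symm hne), Pi.single_eq_of_ne hl2.1,
    Pi.single_eq_of_ne hl2.2] at h2
  simp at h2

end VG

end Cfsg.Agent.Omega.NO3S.SN.R1
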