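import Cfsg.Agent.Omega.S5.Def
import Cfsg.Agent.Omega.FFThmM
import Cfsg.Agent.Omega.ML.Final

/-!
# THEOREM R1 (helper430 #22327, referee helper42 #22750; helper62 #22855 (3')): the abstract frame

`V` is a line on the point `z = ε (single 0 1)` (the letter `oo` is `0`), `W = U_z`.  For a set `Γ` of letters

* `VG ε Γ` : the vectors of `V` which are constant on `Γ`; `YG ε Γ = C_G(V_Γ)`; `UG V ε Γ = ⟨V^{Y_Γ}⟩`
  (`Γ = {i,j}` : `l_ij`, `X_ij`, canonical `W_ij`; `Γ = {i,j,k}` : `l_Γ`, `Y`, `U_Γ`);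
* `Ln V ε W` : the facts on a line on `z` (no level, no `J`);
* `Best W A` : `A` acts on `W` as a minimal best offender;
* `Goo V ε W A Γ` : `[W, A] ≤ U_Γ`.
-/

set_option autoImplicit false

namespace Cfsg.Agent.Omega.NO3S.SN.R1

open Subgroup Cfsg Cfsg.Agent.ZN Cfsg.Agent.Omega.S5.Def
open Cfsg.Agent.Omega.FFThm (ElemM)

universe u

section defs

variable {G : Type u} [Group G]

/-- `⟨V^R⟩` -/
def Cl (V R : Subgroup G) : Subgroup G := closure {x | ∃ g ∈ R, ∃ w ∈ V, x = g * w * g⁻¹}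

variable {n : ℕ}

/-- constant on `Γ` -/
def Cst (Γ : Finset (Fin n)) (x : Fin n → ZMod 2) : Prop := ∀ i ∈ Γ, ∀ j ∈ Γ, x i = x j

/-- `V_Γ` -/
def VG (ε : (Fin n → ZMod 2) → G) (Γ : Finset (Fin n)) : Subgroup G := closure {v | ∃ x, Cst Γ x ∧ ε x = v}

/-- `Y_Γ = C_G(V_Γ)` -/
def YG (ε : (Fin n → ZMod 2) → G) (Γ : Finset (Fin n)) : Subgroup G := centralizer (VG ε Γ : Set G)

/-- `U_Γ = ⟨V^{Y_Γ}⟩` -/
def UG (V : Subgroup G) (ε : (Fin n → ZMod 2) → G) (Γ : Finset (Fin n)) : Subgroup G := Cl V (YG ε Γ)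

/-- the heavy vector `z_i` -/
def zz (ε : (Fin n → ZMod 2) → G) (i : Fin n) : G := ε (Pi.single i 1)

/-- the facts on a line `V` on the point `z = z_0` -/
structure Ln [NeZero n] (V : Subgroup G) (ε : (Fin n → ZMod 2) → G) (W : Subgroup G) : Prop where
  n5 : 5 ≤ n
  ev : EvenSet n V (normalizer (V : Set G)) ε
  VW : V ≤ W
  Wn : centralizer ({zz ε 0} : Set G) ≤ normalizer (W : Set G)
  Wc : ∀ a ∈ W, ∀ b ∈ W, a * b = b * a
  Ws : ∀ a ∈ W, a * a = 1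
  /-- fusion of the heavy vectors in `V` -/
  fus : ∀ (i : Fin n) (g : G), g * zz ε i * g⁻¹ ∈ V → ∃ j, g * zz ε i * g⁻¹ = zz ε j
  /-- (B2) -/
  syl : ∀ Γ : Finset (Fin n), 0 ∉ Γ → ∃ T : Subgroup G, T ≤ YG ε Γ ∧ T ≤ normalizer (V : Set G) ∧ IsPGroup 2 T ∧
    ¬ 2 ∣ T.relIndex (YG ε Γ)
  kg : IsKGroup (centralizer ({zz ε 0} : Set G))

/-- `A` acts on `W` as a minimal best offender: `|W : C_W(A)| ≤ |A : C_A(W)|`, and `|C_W(B) : C_W(A)| < |A : B|` for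
`C_A(W) < B < A`. -/
structure Best (W A : Subgroup G) : Prop where
  el : ElemM W A
  ne : ¬ A ≤ centralizer (W : Set G)
  off : (centralizer (A : Set G)).relIndex W ≤ (centralizer (W : Set G)).relIndex A
  min : ∀ B : Subgroup G, A ⊓ centralizer (W : Set G) < B → B < A →
    (centralizer (A : Set G)).relIndex (W ⊓ centralizer (B : Set G)) < B.relIndex A

/-- `[W, A] ≤ U_Γ` -/
def Goo (V : Subgroup G) (ε : (Fin n → ZMod 2) → G) (W A : Subgroup G) (Γ : Finset (Fin n)) : Prop :=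
  ∀ a ∈ A, ∀ w ∈ W, a * w * a⁻¹ * w⁻¹ ∈ UG V ε Γ

end defs

end Cfsg.Agent.Omega.NO3S.SN.R1
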