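import Cfsg.Agent.Omega.NO3S.SN.R1.Bas
import Cfsg.Agent.Omega.NO3b.Closed.Base
import Cfsg.Agent.Omega.NOThreeL.SwapPlug
import Cfsg.Agent.ZN.Block

/-!
# THEOREM R1, `r = 1`: the commutators `[W_ab, Q_a]` (helper358 #22753 (2)-(4); helper738 #23110 (3))

Valid for `C_G(z)` and for the relative form (`M` in place of `C_G(z)`): the groups `Q i` are a family with
`Q i ≤ C_G(V)`, normalised by `X_jk`, `i ∉ {j, k}`, and permuted by `N_G(V)` (`Fam`).

* `Cm W Q` : `[W, Q]`, generated by the `q w q⁻¹ w⁻¹`;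
* `key` : `X` centralises `V₁`, `|V : V₁| = 2`, `E ≤ O₂(C_G(V))`, `E ≰ O₂(X)`, `[W, E]` is centralised by `Qk`, which is
  normalised by `X`, `E` centralises `W'`: `[W', Qk] ∩ V ≤ V₁`;
* `Mv.P` : `[W_ab, Q_a] ∩ V ≤ ⟨z_a⟩`;
* `Mv.inter`, `Mv.comm`, `Mv.four`, `Mv.fix` : `F_a ∩ F_b = 1`, `[F_a, Q_b] = 1`, `f f' ∈ V_ab` implies `f ∈ ⟨z_a⟩`;
* **`Mv.faith`** : an element of `X_ab` which is trivial on `W_ab / V_ab` centralises `W_ab`.
-/

set_option autoImplicit false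
set_option linter.unusedSectionVars false

namespace Cfsg.Agent.Omega.NO3S.SN.R1.Faith

open Subgroup Cfsg Cfsg.Agent.ZN Cfsg.Agent.Omega.S5.Def
open Cfsg.Agent.ZN.Block (mem_normalizer_of conj_mem_of_normalizer conj_mem_of_normalizer' le_normalizer_of_forall)
open Cfsg.Agent.MinSimple.VModule (le_o2 o2_le o2_isPGroup le_normalizer_o2)
open Cfsg.Agent.Omega.NOThreeL.SwapTrick (normalizer_le_normalizer_o2)

universe u

variable {G : Type u} [Group G]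

theorem o2_mono {L R : Subgroup G} (h1 : L ≤ R) (h2 : R ≤ normalizer (L : Set G)) : o2 L ≤ o2 R :=
  le_o2 ((o2_le L).trans h1) (o2_isPGroup L) (h2.trans (normalizer_le_normalizer_o2 L))

/-! ### `[W, Q]` -/

/-- `[W, Q]` -/
def Cm (W Q : Subgroup G) : Subgroup G := closure {x | ∃ q ∈ Q, ∃ w ∈ W, x = q * w * q⁻¹ * w⁻¹}

theorem mem_Cm {W Q : Subgroup G} {q w : G} (hq : q ∈ Q) (hw : w ∈ W) : q * w * q⁻¹ * w⁻¹ ∈ Cm W Q :=
  subset_closure ⟨q, hq, w, hw, rfl⟩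

theorem Cm_le {W Q U : Subgroup G} (h : ∀ q ∈ Q, ∀ w ∈ W, q * w * q⁻¹ * w⁻¹ ∈ U) : Cm W Q ≤ U := by
  rw [Cm, closure_le]
  rintro _ ⟨q, hq, w, hw, rfl⟩
  exact h q hq w hw

theorem Cm_mono {W W' Q Q' : Subgroup G} (h : W ≤ W') (h' : Q ≤ Q') : Cm W Q ≤ Cm W' Q' :=
  Cm_le fun _ hq _ hw => mem_Cm (h' hq) (h hw)

theorem Cm_conj {W Q W' Q' : Subgroup G} {g : G} (hW : ∀ w ∈ W, g * w * g⁻¹ ∈ W') (hQ : ∀ q ∈ Q, g * q * g⁻¹ ∈ Q')
    {x : G} (hx : x ∈ Cm W Q) : g * x * g⁻¹ ∈ Cm W' Q' := by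
  have h1 : (Cm W Q).map (MulAut.conj g).toMonoidHom ≤ Cm W' Q' := by
    rw [Cm, MonoidHom.map_closure, closure_le]
    rintro _ ⟨_, ⟨q, hq, w, hw, rfl⟩, rfl⟩
    refine subset_closure ⟨g * q * g⁻¹, hQ q hq, g * w * g⁻¹, hW w hw, ?_⟩
    change g * (q * w * q⁻¹ * w⁻¹) * g⁻¹ = _
    group
  exact h1 ⟨x, hx, rfl⟩

theorem Cm_norm {W Q R : Subgroup G} (hW : R ≤ normalizer (W : Set G)) (hQ : R ≤ normalizer (Q : Set G)) :
    R ≤ normalizer (Cm W Q : Set G) :=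
  le_normalizer_of_forall fun _ hr _ hx =>
    Cm_conj (fun _ hw => conj_mem_of_normalizer hW hr hw) (fun _ hq => conj_mem_of_normalizer hQ hr hq) hx

theorem Cm_le_of_norm {W Q : Subgroup G} (h : Q ≤ normalizer (W : Set G)) : Cm W Q ≤ W :=
  Cm_le fun _ hq _ hw => mul_mem (conj_mem_of_normalizer h hq hw) (inv_mem hw)

/-! ### The core -/

section core

variable [Finite G] {F₁ F₂ V V₁ W Q₀ : Subgroup G} {z₁ z₂ : G}

theorem inter_bot (hWp : IsPGroup 2 W) (h1W : F₁ ≤ W) (hQ : IsPGroup 2 Q₀) (n1 : Q₀ ≤ normalizer (F₁ : Set G))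
    (n2 : Q₀ ≤ normalizer (F₂ : Set G)) (cQ : ∀ w ∈ W, (∀ q ∈ Q₀, q * w = w * q) → w ∈ V)
    (h1 : ∀ f ∈ F₁, f ∈ V → f = 1 ∨ f = z₁) (h2 : ∀ f ∈ F₂, f ∈ V → f = 1 ∨ f = z₂) (hz : z₁ ≠ z₂) :
    ∀ f ∈ F₁, f ∈ F₂ → f = 1 := by
  have hb : F₁ ⊓ F₂ = ⊥ := by
    by_contra hne
    obtain ⟨c, hc, hc1, hcQ⟩ := NO3b.ClosedPt.exists_fixed (Q := Q₀) (hWp.to_le (inf_le_left.trans h1W) : IsPGroup 2
      (F₁ ⊓ F₂ : Subgroup G)) hne hQ (le_normalizer_of_forall fun q hq f hf =>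
        mem_inf.2 ⟨conj_mem_of_normalizer n1 hq hf.1, conj_mem_of_normalizer n2 hq hf.2⟩)
    have hcV : c ∈ V := cQ c (h1W hc.1) fun q hq => mem_centralizer_iff.1 hcQ q hq
    rcases h1 c hc.1 hcV with h3 | h3
    · exact hc1 h3
    · rcases h2 c hc.2 hcV with h4 | h4
      · exact hc1 h4
      · exact hz (h3.symm.trans h4)
  intro f hf hf'
  have h3 : f ∈ F₁ ⊓ F₂ := ⟨hf, hf'⟩
  rw [hb] at h3
  exact mem_bot.1 h3

theorem four_core (hWp : IsPGroup 2 W) (h1W : F₁ ≤ W)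
    (hQ : IsPGroup 2 Q₀) (n1 : Q₀ ≤ normalizer (F₁ : Set G))
    (n2 : Q₀ ≤ normalizer (F₂ : Set G)) (cQ : ∀ w ∈ W, (∀ q ∈ Q₀, q * w = w * q) → w ∈ V)
    (h1 : ∀ f ∈ F₁, f ∈ V → f = 1 ∨ f = z₁) (h2 : ∀ f ∈ F₂, f ∈ V → f = 1 ∨ f = z₂) (hz : z₁ ≠ z₂)
    (cV : ∀ v ∈ V₁, ∀ q ∈ Q₀, q * v * q⁻¹ = v) {f f' : G} (hf : f ∈ F₁) (hf' : f' ∈ F₂) (hff : f * f' ∈ V₁) :
    f = 1 ∨ f = z₁ := by
  refine h1 f hf (cQ f (h1W hf) fun q hq => ?_)
  have e1 : q * (f * f') * q⁻¹ = f * f' := cV _ hff q hq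
  have hqf : q * f * q⁻¹ ∈ F₁ := conj_mem_of_normalizer n1 hq hf
  have hqf' : q * f' * q⁻¹ ∈ F₂ := conj_mem_of_normalizer n2 hq hf'
  have e2 : f⁻¹ * (q * f * q⁻¹) = f' * (q * f' * q⁻¹)⁻¹ := by
    have e3 : q * f * q⁻¹ * (q * f' * q⁻¹) = f * f' := by rw [← e1]; group
    calc f⁻¹ * (q * f * q⁻¹) = f⁻¹ * (q * f * q⁻¹ * (q * f' * q⁻¹)) * (q * f' * q⁻¹)⁻¹ := by group
      _ = f' * (q * f' * q⁻¹)⁻¹ := by rw [e3]; group
  have h3 := inter_bot hWp h1W hQ n1 n2 cQ h1 h2 hz _ (mul_mem (inv_mem hf) hqf)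
    (by rw [e2]; exact mul_mem hf' (inv_mem hqf'))
  have h4 : q * f * q⁻¹ = f := by
    calc q * f * q⁻¹ = f * (f⁻¹ * (q * f * q⁻¹)) := by group
      _ = f := by rw [h3, mul_one]
  calc q * f = q * f * q⁻¹ * q := by group
    _ = f * q := by rw [h4]

end core

/-! ### The key lemma -/

section key

variable [Finite G] {V V₁ W X E Qk W' : Subgroup G}

/-- `E ≤ O₂(C_G(V))`, `E ≤ Y ≤ C_G(V)`, `Y` normal in `X`: `E ≤ O₂(X)` -/
theorem le_o2_of {Y : Subgroup G} (Eo : E ≤ o2 (centralizer (V : Set G))) (hEY : E ≤ Y)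
    (hY : Y ≤ centralizer (V : Set G)) (hYX : Y ≤ X) (hn : X ≤ normalizer (Y : Set G)) : E ≤ o2 X := by
  have h1 : E ≤ o2 Y := by
    refine (le_inf Eo hEY).trans (le_o2 inf_le_right ((o2_isPGroup _).to_le inf_le_left) ?_)
    exact le_normalizer_of_forall fun y hy x hx =>
      mem_inf.2 ⟨conj_mem_of_normalizer (le_normalizer_o2 _) (hY hy) hx.1, mul_mem (mul_mem hy hx.2) (inv_mem hy)⟩
  exact h1.trans (o2_mono hYX hn)

theorem key (Wc : ∀ a ∈ W, ∀ b ∈ W, a * b = b * a) (XV₁ : ∀ x ∈ X, ∀ v ∈ V₁, x * v = v * x)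
    (V2 : ∀ v ∈ V, ∀ w ∈ V, v ∉ V₁ → w ∉ V₁ → v * w ∈ V₁) (XW : X ≤ normalizer (W : Set G))
    (EX : E ≤ X) (Eo : E ≤ o2 (centralizer (V : Set G))) (Eno : ¬ E ≤ o2 X)
    (QX : X ≤ normalizer (Qk : Set G))
    (hI : ∀ e ∈ E, ∀ w ∈ W, ∀ q ∈ Qk, q * (e * w * e⁻¹ * w⁻¹) = e * w * e⁻¹ * w⁻¹ * q)
    (W'W : W' ≤ W) (QW' : Qk ≤ normalizer (W' : Set G)) (EW' : ∀ e ∈ E, ∀ w ∈ W', e * w = w * e) :
    ∀ f ∈ Cm W' Qk, f ∈ V → f ∈ V₁ := by
  set EE : Subgroup G := Cl E X with hEE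
  have hEEX : EE ≤ X := Cl_le EX le_normalizer
  have hEn : X ≤ normalizer (EE : Set G) := le_normalizer_Cl E X
  -- (i)
  have hI' : ∀ x ∈ EE, ∀ w ∈ W, ∀ q ∈ Qk, q * (x * w * x⁻¹ * w⁻¹) = x * w * x⁻¹ * w⁻¹ * q := by
    intro x hx
    refine closure_induction (p := fun x _ => ∀ w ∈ W, ∀ q ∈ Qk, q * (x * w * x⁻¹ * w⁻¹) = x * w * x⁻¹ * w⁻¹ * q)
      ?_ ?_ ?_ ?_ hx
    · rintro _ ⟨g, hg, e, he, rfl⟩ w hw q hq
      have hw' := conj_mem_of_normalizer' XW hg hw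
      have hq' := conj_mem_of_normalizer' QX hg hq
      have h1 := hI e he _ hw' _ hq'
      calc q * (g * e * g⁻¹ * w * (g * e * g⁻¹)⁻¹ * w⁻¹)
          = g * (g⁻¹ * q * g * (e * (g⁻¹ * w * g) * e⁻¹ * (g⁻¹ * w * g)⁻¹)) * g⁻¹ := by group
        _ = g * (e * (g⁻¹ * w * g) * e⁻¹ * (g⁻¹ * w * g)⁻¹ * (g⁻¹ * q * g)) * g⁻¹ := by rw [h1]
        _ = g * e * g⁻¹ * w * (g * e * g⁻¹)⁻¹ * w⁻¹ * q := by group
    · intro w _ q _
      simp
    · intro x y hx hy ihx ihy w hw q hq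
      have hyw : y * w * y⁻¹ ∈ W := conj_mem_of_normalizer (hEEX.trans XW) hy hw
      have h1 := ihx _ hyw q hq
      have h2 := ihy w hw q hq
      calc q * (x * y * w * (x * y)⁻¹ * w⁻¹)
          = (q * (x * (y * w * y⁻¹) * x⁻¹ * (y * w * y⁻¹)⁻¹)) * (y * w * y⁻¹ * w⁻¹) := by group
        _ = (x * (y * w * y⁻¹) * x⁻¹ * (y * w * y⁻¹)⁻¹) * (q * (y * w * y⁻¹ * w⁻¹)) := by rw [h1]; group
        _ = (x * (y * w * y⁻¹) * x⁻¹ * (y * w * y⁻¹)⁻¹) * (y * w * y⁻¹ * w⁻¹) * q := by rw [h2]; group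
        _ = x * y * w * (x * y)⁻¹ * w⁻¹ * q := by group
    · intro x hx ihx w hw q hq
      have hxw : x⁻¹ * w * x ∈ W := conj_mem_of_normalizer' (hEEX.trans XW) hx hw
      have h1 := ihx _ hxw q hq
      have e1 : x⁻¹ * w * x⁻¹⁻¹ * w⁻¹ = (x * (x⁻¹ * w * x) * x⁻¹ * (x⁻¹ * w * x)⁻¹)⁻¹ := by group
      rw [e1]
      have h2 : Commute q (x * (x⁻¹ * w * x) * x⁻¹ * (x⁻¹ * w * x)⁻¹) := h1
      exact h2.inv_right
  -- (ii)
  have hFn : EE ≤ normalizer (Cm W' Qk : Set G) := by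
    have key : ∀ x ∈ EE, ∀ f ∈ Cm W' Qk, x * f * x⁻¹ ∈ Cm W' Qk := by
      intro x hx f hf
      have h1 : (Cm W' Qk).map (MulAut.conj x).toMonoidHom ≤ Cm W' Qk := by
        rw [Cm, MonoidHom.map_closure, closure_le]
        rintro _ ⟨_, ⟨q, hq, u, hu, rfl⟩, rfl⟩
        change x * (q * u * q⁻¹ * u⁻¹) * x⁻¹ ∈ Cm W' Qk
        have hq' : x * q * x⁻¹ ∈ Qk := conj_mem_of_normalizer (hEEX.trans QX) hx hq
        have huW := W'W hu
        set q' := x * q * x⁻¹ with hq'd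
        set c := x * u * x⁻¹ * u⁻¹ with hc
        have hcW : c ∈ W := mul_mem (conj_mem_of_normalizer (hEEX.trans XW) hx huW) (inv_mem huW)
        have hcq : q' * c = c * q' := hI' x hx u huW q' hq'
        have hqu : q' * u * q'⁻¹ ∈ W' := conj_mem_of_normalizer QW' hq' hu
        have e1 : x * (q * u * q⁻¹ * u⁻¹) * x⁻¹ = q' * (c * u) * q'⁻¹ * (c * u)⁻¹ := by
          rw [hq'd, hc]; group
        have e2 : q' * (c * u) * q'⁻¹ * (c * u)⁻¹ = q' * u * q'⁻¹ * u⁻¹ := by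
          have hcu : (q' * u * q'⁻¹ * u⁻¹) * c⁻¹ = c⁻¹ * (q' * u * q'⁻¹ * u⁻¹) :=
            Wc _ (mul_mem (W'W hqu) (inv_mem huW)) _ (inv_mem hcW)
          calc q' * (c * u) * q'⁻¹ * (c * u)⁻¹ = (q' * c) * (u * q'⁻¹ * u⁻¹ * c⁻¹) := by group
            _ = c * ((q' * u * q'⁻¹ * u⁻¹) * c⁻¹) := by rw [hcq]; group
            _ = q' * u * q'⁻¹ * u⁻¹ := by rw [hcu]; group
        rw [e1, e2]
        exact mem_Cm hq' hu
      exact h1 ⟨f, hf, rfl⟩
    exact le_normalizer_of_forall key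
  -- (iii)
  set E₁ : Subgroup G := Cl E EE with hE₁
  have hE₁E : E₁ ≤ EE := Cl_le (le_Cl E X) le_normalizer
  have hFW' : Cm W' Qk ≤ W' := Cm_le_of_norm QW'
  have hEF : ∀ y ∈ E₁, ∀ f ∈ Cm W' Qk, y * f = f * y := by
    intro y hy f hf
    have h1 : E₁ ≤ centralizer (Cm W' Qk : Set G) := by
      refine Cl_le (fun e he => mem_centralizer_iff.2 fun f hf => (EW' e he f (hFW' hf)).symm) ?_
      refine hFn.trans ?_
      exact le_normalizer_of_forall fun x hx c hc => mem_centralizer_iff.2 fun f hf => by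
        have h2 : x⁻¹ * f * x ∈ Cm W' Qk :=
          (mem_normalizer_iff''.1 hx f).1 hf
        have h3 := mem_centralizer_iff.1 hc _ h2
        calc f * (x * c * x⁻¹) = x * (x⁻¹ * f * x * c) * x⁻¹ := by group
          _ = x * (c * (x⁻¹ * f * x)) * x⁻¹ := by rw [h3]
          _ = x * c * x⁻¹ * f := by group
    exact (mem_centralizer_iff.1 (h1 hy) f hf).symm
  -- (iv)
  have hnot : ¬ E₁ ≤ centralizer (V : Set G) := by
    intro hcon
    apply Eno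
    have h1 : E ≤ o2 EE := le_o2_of Eo (le_Cl E EE) hcon hE₁E (le_normalizer_Cl E EE)
    exact h1.trans (o2_mono hEEX hEn)
  -- (v)
  intro f hf hfV
  by_contra hfn
  apply hnot
  intro y hy
  rw [mem_centralizer_iff]
  intro v hv
  have hyX : y ∈ X := hEEX (hE₁E hy)
  have hyf := hEF y hy f hf
  by_cases hv1 : v ∈ V₁
  · exact (XV₁ y hyX v hv1).symm
  · have h1 := XV₁ y hyX _ (V2 v hv f hfV hv1 hfn)
    calc v * y = (v * f) * (f⁻¹ * y) := by group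
      _ = (v * f) * (y * f⁻¹) := by
        have h2 : Commute y f := hyf
        rw [(h2.inv_right).eq]
      _ = (y * (v * f)) * f⁻¹ := by rw [h1]; group
      _ = y * v := by group

end key

/-! ### The family `Q` -/

section fam

variable {n : ℕ} [NeZero n]

/-- the family `Q i = O₂(C_G(z_i))`, or `O₂(M^(i))` -/
structure Fam (V : Subgroup G) (ε : (Fin n → ZMod 2) → G) (Q : Fin n → Subgroup G) : Prop where
  qc : ∀ i, Q i ≤ centralizer (V : Set G)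
  qn : ∀ i j k, i ≠ j → i ≠ k → j ≠ k → YG ε {j, k} ≤ normalizer (Q i : Set G)
  qs : ∀ (g : G) (σ : Equiv.Perm (Fin n)), Acts ε g σ → ∀ i, ∀ q ∈ Q i, g * q * g⁻¹ ∈ Q (σ i)

/-- `E ≤ Q a` moves the pair `{a, b}` -/
structure Mv (V : Subgroup G) (ε : (Fin n → ZMod 2) → G) (W : Subgroup G) (Q : Fin n → Subgroup G)
    (T₀ E : Subgroup G) (a b : Fin n) : Prop where
  n5 : 5 ≤ n
  ev : EvenSet n V (normalizer (V : Set G)) ε
  Wc : ∀ x ∈ W, ∀ y ∈ W, x * y = y * x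
  Ws : ∀ x ∈ W, x * x = 1
  UW : ∀ i j : Fin n, i ≠ 0 → j ≠ 0 → i ≠ j → UG V ε {i, j} ≤ W
  XW : ∀ i j : Fin n, i ≠ 0 → j ≠ 0 → i ≠ j → YG ε {i, j} ≤ normalizer (W : Set G)
  fam : Fam V ε Q
  T2 : IsPGroup 2 T₀
  TV : T₀ ≤ centralizer (V : Set G)
  cT : ∀ w ∈ W, (∀ t ∈ T₀, t * w = w * t) → w ∈ V
  a0 : a ≠ 0
  b0 : b ≠ 0
  ab : a ≠ b
  EQ : E ≤ Q a
  Eo : E ≤ o2 (centralizer (V : Set G))
  Eno : ¬ E ≤ o2 (YG ε {a, b})
  hI : ∀ k, k ≠ 0 → k ≠ a → k ≠ b → ∀ e ∈ E, ∀ w ∈ W, ∀ q ∈ Q k, q * (e * w * e⁻¹ * w⁻¹) = e * w * e⁻¹ * w⁻¹ * q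

variable {V : Subgroup G} {ε : (Fin n → ZMod 2) → G} {W : Subgroup G} {Q : Fin n → Subgroup G}
  {T₀ E : Subgroup G} {a b : Fin n}

omit [NeZero n] in
theorem VG_conj (ev : EvenSet n V (normalizer (V : Set G)) ε) {g : G} {σ : Equiv.Perm (Fin n)} (hσ : Acts ε g σ)
    {i j i' j' : Fin n} (hi : σ i = i') (hj : σ j = j') {v : G} (hv : v ∈ VG ε {i, j}) :
    g * v * g⁻¹ ∈ VG ε {i', j'} := by
  obtain ⟨x, hx, rfl⟩ := (mem_VG ev).1 hv
  rw [hσ x, mem_VG_iff ev]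
  have h1 : x i = x j := hx i (by simp) j (by simp)
  have e1 : σ.symm i' = i := by rw [Equiv.symm_apply_eq, hi]
  have e2 : σ.symm j' = j := by rw [Equiv.symm_apply_eq, hj]
  have key : ∀ k ∈ ({i', j'} : Finset (Fin n)), (x ∘ σ.symm) k = x i := by
    intro k hk
    rcases Finset.mem_insert.1 hk with h | h
    · rw [h]
      change x (σ.symm i') = x i
      rw [e1]
    · rw [Finset.mem_singleton.1 h]
      change x (σ.symm j') = x i
      rw [e2, h1]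
  intro k hk l hl
  rw [key k hk, key l hl]

omit [NeZero n] in
theorem YG_conj (ev : EvenSet n V (normalizer (V : Set G)) ε) {g : G} {σ : Equiv.Perm (Fin n)} (hσ : Acts ε g σ)
    {i j i' j' : Fin n} (hi : σ i = i') (hj : σ j = j') {y : G} (hy : y ∈ YG ε {i, j}) :
    g * y * g⁻¹ ∈ YG ε {i', j'} := by
  unfold YG at hy ⊢
  rw [mem_centralizer_iff] at hy ⊢
  intro v hv
  have h1 : g⁻¹ * v * g ∈ VG ε {i, j} := by
    have h2 := VG_conj ev hσ.inv (i := i') (j := j') (i' := i) (j' := j)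
      (by rw [← hi]; exact σ.symm_apply_apply i) (by rw [← hj]; exact σ.symm_apply_apply j) hv
    rwa [inv_inv] at h2
  have h3 := hy _ h1
  calc v * (g * y * g⁻¹) = g * (g⁻¹ * v * g * y) * g⁻¹ := by group
    _ = g * (y * (g⁻¹ * v * g)) * g⁻¹ := by rw [h3]
    _ = g * y * g⁻¹ * v := by group

omit [NeZero n] in
theorem UG_conj (ev : EvenSet n V (normalizer (V : Set G)) ε) {g : G} {σ : Equiv.Perm (Fin n)} (hσ : Acts ε g σ)
    {i j i' j' : Fin n} (hi : σ i = i') (hj : σ j = j') {u : G} (hu : u ∈ UG V ε {i, j}) :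
    g * u * g⁻¹ ∈ UG V ε {i', j'} := by
  have hgV : ∀ v ∈ V, g * v * g⁻¹ ∈ V := by
    intro v hv
    obtain ⟨x, rfl⟩ := ev.surj v hv
    rw [hσ x]
    exact ev.mem _
  have h1 : (UG V ε {i, j}).map (MulAut.conj g).toMonoidHom ≤ UG V ε {i', j'} := by
    unfold UG
    rw [Cl, MonoidHom.map_closure, closure_le]
    rintro _ ⟨_, ⟨y, hy, v, hv, rfl⟩, rfl⟩
    refine subset_closure ⟨g * y * g⁻¹, YG_conj ev hσ hi hj hy, g * v * g⁻¹, hgV v hv, ?_⟩
    change g * (y * v * y⁻¹) * g⁻¹ = _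
    group
  exact h1 ⟨u, hu, rfl⟩

namespace Mv

variable [Finite G] (h : Mv V ε W Q T₀ E a b)
include h

theorem n3 : 3 ≤ n := le_trans (by norm_num) h.n5

theorem U_le {i j : Fin n} (hi : i ≠ 0) (hj : j ≠ 0) (hij : i ≠ j) : UG V ε {i, j} ≤ W := h.UW i j hi hj hij

theorem V_le_W : V ≤ W := (le_Cl V _).trans (h.UW a b h.a0 h.b0 h.ab)

theorem W2 : IsPGroup 2 W := by
  intro w
  refine ⟨1, ?_⟩
  rw [pow_one, pow_two]
  exact Subtype.ext (h.Ws w w.2)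

/-- `V = V_ij ∪ v V_ij` -/
theorem V2 (i j : Fin n) (v w : G) (hv : v ∈ V) (hw : w ∈ V) (hv' : v ∉ VG ε {i, j}) (hw' : w ∉ VG ε {i, j}) :
    v * w ∈ VG ε {i, j} := by
  obtain ⟨x, rfl⟩ := h.ev.surj v hv
  obtain ⟨y, rfl⟩ := h.ev.surj w hw
  rw [mem_VG_iff h.ev] at hv' hw'
  rw [← h.ev.add, mem_VG_iff h.ev]
  have hne : ∀ x : Fin n → ZMod 2, ¬ Cst {i, j} x → x i = x j + 1 := by
    intro x hx
    by_contra hcon
    apply hx
    have hij : x i = x j := by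
      revert hcon
      generalize x i = p
      generalize x j = q
      revert p q
      decide
    intro k hk l hl
    have h1 : ∀ m ∈ ({i, j} : Finset (Fin n)), x m = x j := by
      intro m hm
      rcases Finset.mem_insert.1 hm with e | e
      · rw [e, hij]
      · rw [Finset.mem_singleton.1 e]
    rw [h1 k hk, h1 l hl]
  have h1 := hne x hv'
  have h2 := hne y hw'
  have h3 : ∀ m ∈ ({i, j} : Finset (Fin n)), (x + y) m = x j + y j := by
    intro m hm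
    rcases Finset.mem_insert.1 hm with e | e
    · rw [e, Pi.add_apply, h1, h2]
      have e2 : (1 : ZMod 2) + 1 = 0 := by decide
      calc x j + 1 + (y j + 1) = x j + y j + (1 + 1) := by ring
        _ = x j + y j := by rw [e2, add_zero]
    · rw [Finset.mem_singleton.1 e, Pi.add_apply]
  intro k hk l hl
  rw [h3 k hk, h3 l hl]

theorem cV_le (i j : Fin n) : centralizer (V : Set G) ≤ YG ε {i, j} := centralizer_le_YG h.ev _

theorem cV_Q (i : Fin n) : centralizer (V : Set G) ≤ normalizer (Q i : Set G) :=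
  le_normalizer_of_forall fun c hc q hq => h.fam.qs c 1 ((h.ev.acts_one_iff).2 hc) i q hq

theorem Q_norm_U (i j k : Fin n) : Q i ≤ normalizer (UG V ε {j, k} : Set G) :=
  ((h.fam.qc i).trans (h.cV_le j k)).trans (le_normalizer_Cl V _)

/-- `Q i` centralises `W_jk` -/
theorem Q_cent {i j k : Fin n} (hij : i ≠ j) (hik : i ≠ k) (hjk : j ≠ k) :
    ∀ q ∈ Q i, ∀ w ∈ UG V ε {j, k}, q * w = w * q := by
  have h1 : UG V ε {j, k} ≤ centralizer (Q i : Set G) := by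
    refine Cl_le (fun v hv => mem_centralizer_iff.2 fun q hq => (mem_centralizer_iff.1 (h.fam.qc i hq) v hv).symm) ?_
    refine (h.fam.qn i j k hij hik hjk).trans ?_
    exact le_normalizer_of_forall fun x hx c hc => mem_centralizer_iff.2 fun q hq => by
      have h2 : x⁻¹ * q * x ∈ Q i := (mem_normalizer_iff''.1 hx q).1 hq
      have h3 := mem_centralizer_iff.1 hc _ h2
      calc q * (x * c * x⁻¹) = x * (x⁻¹ * q * x * c) * x⁻¹ := by group
        _ = x * (c * (x⁻¹ * q * x)) * x⁻¹ := by rw [h3]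
        _ = x * c * x⁻¹ * q := by group
  exact fun q hq w hw => mem_centralizer_iff.1 (h1 hw) q hq

/-- **(P)** `[W_ab, Q_a] ∩ V ≤ ⟨z_a⟩` -/
theorem P : ∀ f ∈ Cm (UG V ε {a, b}) (Q a), f ∈ V → f = 1 ∨ f = zz ε a := by
  have hab := h.ab
  -- the basic case
  have base : ∀ k, k ≠ 0 → k ≠ a → k ≠ b → ∀ f ∈ Cm (UG V ε {b, k}) (Q k), f ∈ V → f ∈ VG ε {a, b} := by
    intro k hk0 hka hkb
    refine key (X := YG ε {a, b}) (W := W) (E := E) h.Wc ?_ ?_ (h.XW a b h.a0 h.b0 hab) ?_ h.Eo h.Eno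
      (h.fam.qn k a b hka hkb hab) (h.hI k hk0 hka hkb) (h.UW b k h.b0 hk0 hkb.symm) (h.Q_norm_U k b k) ?_
    · exact fun x hx v hv => (mem_centralizer_iff.1 hx v hv).symm
    · exact fun v hv w hw hv' hw' => h.V2 a b v w hv hw hv' hw'
    · exact (h.EQ.trans (h.fam.qc a)).trans (h.cV_le a b)
    · exact fun e he w hw => h.Q_cent hab hka.symm hkb.symm e (h.EQ he) w hw
  intro f hf hfV
  obtain ⟨k, hk⟩ : ∃ k : Fin n, k ∉ ({0, a, b} : Finset (Fin n)) := by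
    by_contra hcon
    push Not at hcon
    have h1 : (Finset.univ : Finset (Fin n)) ⊆ {0, a, b} := fun x _ => hcon x
    have h2 := Finset.card_le_card h1
    rw [Finset.card_univ, Fintype.card_fin] at h2
    have h3 := h2.trans Finset.card_le_three
    have := h.n5
    omega
  simp only [Finset.mem_insert, Finset.mem_singleton, not_or] at hk
  obtain ⟨hk0, hka, hkb⟩ : k ≠ 0 ∧ k ≠ a ∧ k ≠ b := hk
  have step : ∀ m, m ≠ a → m ≠ b → f ∈ VG ε {m, b} := by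
    intro m hma hmb
    obtain ⟨g, hg, hσ⟩ := h.ev.full (Equiv.swap m k * Equiv.swap a k)
    set σ : Equiv.Perm (Fin n) := Equiv.swap m k * Equiv.swap a k with hσd
    have e1 : σ k = a := by
      rw [hσd, Equiv.Perm.mul_apply, Equiv.swap_apply_right]
      exact Equiv.swap_apply_of_ne_of_ne hma.symm hka.symm
    have e2 : σ a = m := by
      rw [hσd, Equiv.Perm.mul_apply, Equiv.swap_apply_left, Equiv.swap_apply_right]
    have e3 : σ b = b := by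
      rw [hσd, Equiv.Perm.mul_apply, Equiv.swap_apply_of_ne_of_ne hab.symm hkb.symm]
      exact Equiv.swap_apply_of_ne_of_ne hmb.symm hkb.symm
    have i1 : σ⁻¹ a = k := by rw [← e1]; exact σ.symm_apply_apply k
    have i3 : σ⁻¹ b = b := by
      have h4 := σ.symm_apply_apply b
      rw [e3] at h4
      exact h4
    have hf' : g⁻¹ * f * g ∈ Cm (UG V ε {b, k}) (Q k) := by
      have h1 := Cm_conj (W' := UG V ε {b, k}) (Q' := Q k) (g := g⁻¹) (fun w hw => ?_) (fun q hq => ?_) hf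
      · rwa [inv_inv] at h1
      · have h2 := UG_conj h.ev hσ.inv i1 i3 hw
        rwa [Finset.pair_comm] at h2
      · have h2 := h.fam.qs g⁻¹ σ⁻¹ hσ.inv a q hq
        rwa [i1] at h2
    have hfV' : g⁻¹ * f * g ∈ V := conj_mem_of_normalizer' le_rfl hg hfV
    have h1 := base k hk0 hka hkb _ hf' hfV'
    have h2 := VG_conj h.ev hσ e2 e3 h1
    have e4 : g * (g⁻¹ * f * g) * g⁻¹ = f := by group
    rwa [e4] at h2
  obtain ⟨x, rfl⟩ := h.ev.surj f hfV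
  have hx : ∀ m, m ≠ a → x m = x b := by
    intro m hma
    by_cases hmb : m = b
    · rw [hmb]
    · have h1 := step m hma hmb
      rw [mem_VG_iff h.ev] at h1
      exact h1 m (by simp) b (by simp)
  have h01 : ∀ t : ZMod 2, t = 0 ∨ t = 1 := by decide
  have hxe : x = 0 ∨ x = 1 ∨ x = Pi.single a 1 ∨ x = Pi.single a 1 + 1 := by
    rcases h01 (x b) with hb | hb <;> rcases h01 (x a) with ha | ha
    · left
      funext m
      by_cases hm : m = a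
      · rw [hm, ha]; rfl
      · rw [hx m hm, hb]; rfl
    · right; right; left
      funext m
      by_cases hm : m = a
      · rw [hm, ha, Pi.single_eq_same]
      · rw [hx m hm, hb, Pi.single_eq_of_ne hm]
    · right; right; right
      funext m
      by_cases hm : m = a
      · rw [hm, ha, Pi.add_apply, Pi.single_eq_same, Pi.one_apply]; decide
      · rw [hx m hm, hb, Pi.add_apply, Pi.single_eq_of_ne hm, Pi.one_apply]; decide
    · right; left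
      funext m
      by_cases hm : m = a
      · rw [hm, ha]; rfl
      · rw [hx m hm, hb]; rfl
  rcases hxe with e | e | e | e
  · left; rw [e, h.ev.zero]
  · left; rw [e, h.ev.one]
  · right; rw [e]; rfl
  · right; rw [e, h.ev.add, h.ev.one, mul_one]; rfl

/-- `[W_ab, Q_b] ∩ V ≤ ⟨z_b⟩` -/
theorem P' : ∀ f ∈ Cm (UG V ε {a, b}) (Q b), f ∈ V → f = 1 ∨ f = zz ε b := by
  intro f hf hfV
  obtain ⟨g, hg, hσ⟩ := h.ev.full (Equiv.swap a b)
  have ea : (Equiv.swap a b) a = b := Equiv.swap_apply_left a b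
  have eb : (Equiv.swap a b) b = a := Equiv.swap_apply_right a b
  have h1 : g * f * g⁻¹ ∈ Cm (UG V ε {a, b}) (Q a) := by
    refine Cm_conj (fun w hw => ?_) (fun q hq => ?_) hf
    · have h2 := UG_conj h.ev hσ ea eb hw
      rwa [Finset.pair_comm] at h2
    · have h2 := h.fam.qs g _ hσ b q hq
      rwa [eb] at h2
  have h3 := h.P _ h1 (conj_mem_of_normalizer le_rfl hg hfV)
  have e : g * zz ε b * g⁻¹ = zz ε a := by
    change g * ε (Pi.single b 1) * g⁻¹ = ε (Pi.single a 1)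
    rw [hσ.single, eb]
  rcases h3 with h4 | h4
  · left
    calc f = g⁻¹ * (g * f * g⁻¹) * g := by group
      _ = 1 := by rw [h4]; group
  · right
    calc f = g⁻¹ * (g * f * g⁻¹) * g := by group
      _ = g⁻¹ * (g * zz ε b * g⁻¹) * g := by rw [h4, e]
      _ = zz ε b := by group

theorem U_ab : UG V ε {a, b} ≤ W := h.UW a b h.a0 h.b0 h.ab

theorem F_le : Cm (UG V ε {a, b}) (Q a) ≤ UG V ε {a, b} := Cm_le_of_norm (h.Q_norm_U a a b)

theorem F_le' : Cm (UG V ε {a, b}) (Q b) ≤ UG V ε {a, b} := Cm_le_of_norm (h.Q_norm_U b a b)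

theorem cV_F (i : Fin n) : centralizer (V : Set G) ≤ normalizer (Cm (UG V ε {a, b}) (Q i) : Set G) :=
  Cm_norm ((h.cV_le a b).trans (le_normalizer_Cl V _)) (h.cV_Q i)

theorem zz_ne : zz ε a ≠ zz ε b := fun e => h.ab (h.ev.single_inj h.n3 e)

/-- `F_a ∩ F_b = 1` -/
theorem inter : ∀ f ∈ Cm (UG V ε {a, b}) (Q a), f ∈ Cm (UG V ε {a, b}) (Q b) → f = 1 :=
  inter_bot h.W2 (h.F_le.trans h.U_ab) h.T2 (h.TV.trans (h.cV_F a)) (h.TV.trans (h.cV_F b)) h.cT h.P h.P' h.zz_ne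

/-- `[F_a, Q_b] = 1` -/
theorem comm : ∀ f ∈ Cm (UG V ε {a, b}) (Q a), ∀ q ∈ Q b, q * f = f * q := by
  intro f hf q hq
  have h1 : q * f * q⁻¹ * f⁻¹ ∈ Cm (UG V ε {a, b}) (Q a) :=
    mul_mem (conj_mem_of_normalizer ((h.fam.qc b).trans (h.cV_F a)) hq hf) (inv_mem hf)
  have h2 := h.inter _ h1 (mem_Cm hq (h.F_le hf))
  calc q * f = q * f * q⁻¹ * f⁻¹ * (f * q) := by group
    _ = f * q := by rw [h2, one_mul]

/-- `Q_a ∩ Q_b` centralises `W_ab` -/
theorem inf_cent : ∀ q ∈ Q a, q ∈ Q b → ∀ w ∈ UG V ε {a, b}, q * w = w * q := by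
  intro q hqa hqb w hw
  have h2 := h.inter _ (mem_Cm hqa hw) (mem_Cm hqb hw)
  calc q * w = q * w * q⁻¹ * w⁻¹ * (w * q) := by group
    _ = w * q := by rw [h2, one_mul]

/-- `f f' ∈ V_ab` implies `f ∈ ⟨z_a⟩` -/
theorem four {f f' : G} (hf : f ∈ Cm (UG V ε {a, b}) (Q a)) (hf' : f' ∈ Cm (UG V ε {a, b}) (Q b))
    (hff : f * f' ∈ VG ε {a, b}) : f = 1 ∨ f = zz ε a :=
  four_core h.W2 (h.F_le.trans h.U_ab) h.T2 (h.TV.trans (h.cV_F a))
    (h.TV.trans (h.cV_F b)) h.cT h.P h.P' h.zz_ne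
    (fun v hv q hq => by
      rw [← mem_centralizer_iff.1 (h.TV hq) v (VG_le h.ev _ hv), mul_inv_cancel_right]) hf hf' hff

omit h in
theorem acts_swap (ev : EvenSet n V (normalizer (V : Set G)) ε) (hn : 3 ≤ n) (hab : a ≠ b) {s : G}
    (hs : s ∈ YG ε {a, b}) (hsV : s ∈ normalizer (V : Set G)) (hsn : s ∉ centralizer (V : Set G)) :
    Acts ε s (Equiv.swap a b) := by
  obtain ⟨σ, hσ⟩ := ev.perm s hsV
  have h1 : ∀ m, m ≠ a → m ≠ b → σ m = m := fun m hma hmb =>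
    acts_fix ev hn hσ hs (by simp [hma, hmb])
  have h2 : σ a = a ∨ σ a = b := by
    by_contra hcon
    push Not at hcon
    have h3 := h1 (σ a) hcon.1 hcon.2
    exact hcon.1 (σ.injective h3)
  have h3 : σ b = a ∨ σ b = b := by
    by_contra hcon
    push Not at hcon
    have h3 := h1 (σ b) hcon.1 hcon.2
    exact hcon.2 (σ.injective h3)
  rcases h2 with h2 | h2
  · exfalso
    have h4 : σ b = b := h3.resolve_left fun e => hab (σ.injective (h2.trans e.symm))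
    apply hsn
    rw [← ev.acts_one_iff]
    have e : σ = 1 := by
      ext m
      congr 1
      by_cases hma : m = a
      · rw [hma]; exact h2
      · by_cases hmb : m = b
        · rw [hmb]; exact h4
        · exact h1 m hma hmb
    rwa [← e]
  · have h4 : σ b = a := h3.resolve_right fun e => hab (σ.injective (h2.trans e.symm))
    have e : σ = Equiv.swap a b := by
      ext m
      congr 1
      by_cases hma : m = a
      · rw [hma, h2, Equiv.swap_apply_left]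
      · by_cases hmb : m = b
        · rw [hmb, h4, Equiv.swap_apply_right]
        · rw [h1 m hma hmb, Equiv.swap_apply_of_ne_of_ne hma hmb]
    rwa [← e]

/-- conjugation by `s` interchanges `F_a` and `F_b` -/
theorem F_swap {s f : G} (hσ : Acts ε s (Equiv.swap a b)) (hf : f ∈ Cm (UG V ε {a, b}) (Q a)) :
    s * f * s⁻¹ ∈ Cm (UG V ε {a, b}) (Q b) := by
  refine Cm_conj (fun w hw => ?_) (fun q hq => ?_) hf
  · have h2 := UG_conj h.ev hσ (Equiv.swap_apply_left a b) (Equiv.swap_apply_right a b) hw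
    rwa [Finset.pair_comm] at h2
  · have h2 := h.fam.qs s _ hσ a q hq
    rwa [Equiv.swap_apply_left] at h2

/-- a vector of `F_a` which is fixed modulo `V_ab` by an element interchanging `a` and `b` -/
theorem fix {s f : G} (hs : s ∈ YG ε {a, b}) (hsV : s ∈ normalizer (V : Set G)) (hsn : s ∉ centralizer (V : Set G))
    (hf : f ∈ Cm (UG V ε {a, b}) (Q a)) (hsf : s * f * s⁻¹ * f⁻¹ ∈ VG ε {a, b}) : f = 1 ∨ f = zz ε a := by
  have hσ := acts_swap h.ev h.n3 h.ab hs hsV hsn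
  have h1 := h.F_swap hσ hf
  refine h.four hf h1 ?_
  have hfW := h.U_ab (h.F_le hf)
  have h1W := h.U_ab (h.F_le' h1)
  have e1 : f⁻¹ = f := inv_eq_of_mul_eq_one_right (h.Ws f hfW)
  rw [e1] at hsf
  rwa [h.Wc f hfW _ h1W]

/-- an element of `X_ab` outside `C(V)`, trivial on `W_ab / V_ab` : `[W_ab, Q_a] ≤ ⟨z_a⟩` -/
theorem F_le_z {t : G} (ht : t ∈ YG ε {a, b}) (htn : t ∉ centralizer (V : Set G))
    (htW : ∀ w ∈ UG V ε {a, b}, t * w * t⁻¹ * w⁻¹ ∈ VG ε {a, b}) :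
    ∀ f ∈ Cm (UG V ε {a, b}) (Q a), f = 1 ∨ f = zz ε a := by
  have htV : t ∈ normalizer (V : Set G) := by
    have key : ∀ v ∈ V, t * v * t⁻¹ ∈ V := by
      intro v hv
      have h1 := VG_le h.ev _ (htW v (le_Cl V _ hv))
      have h2 := mul_mem h1 hv
      have e : t * v * t⁻¹ * v⁻¹ * v = t * v * t⁻¹ := by group
      rwa [e] at h2
    have key' : ∀ v ∈ V, t⁻¹ * v * t ∈ V := by
      intro v hv
      have hw : t⁻¹ * v * t ∈ UG V ε {a, b} :=
        conj_mem_of_normalizer' (le_normalizer_Cl V _) ht (le_Cl V _ hv)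
      have h1 := VG_le h.ev _ (htW _ hw)
      have h2 := mul_mem (inv_mem h1) hv
      have e : (t * (t⁻¹ * v * t) * t⁻¹ * (t⁻¹ * v * t)⁻¹)⁻¹ * v = t⁻¹ * v * t * (v⁻¹ * v) := by group
      rw [e, inv_mul_cancel, mul_one] at h2
      exact h2
    exact mem_normalizer_of key key'
  intro f hf
  exact h.fix ht htV htn hf (htW f (h.F_le hf))

/-- **`X_ab` is faithful on `W_ab / V_ab` modulo `C(W_ab)`.** -/
theorem faith (hE4 : ∀ w ∈ W, (∀ e ∈ E, e * w * e⁻¹ * w⁻¹ = 1 ∨ e * w * e⁻¹ * w⁻¹ = zz ε a) →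
    ∀ e ∈ E, e * w = w * e) {t : G} (ht : t ∈ YG ε {a, b})
    (htW : ∀ w ∈ UG V ε {a, b}, t * w * t⁻¹ * w⁻¹ ∈ VG ε {a, b}) : t ∈ centralizer (UG V ε {a, b} : Set G) := by
  -- `C_X(N) ≤ C(V)`
  have key : ∀ t ∈ YG ε {a, b}, (∀ w ∈ UG V ε {a, b}, t * w * t⁻¹ * w⁻¹ ∈ VG ε {a, b}) →
      t ∈ centralizer (V : Set G) := by
    intro t ht htW
    by_contra htn
    have h1 := h.F_le_z ht htn htW
    apply h.Eno
    have hEU : ∀ e ∈ E, ∀ w ∈ UG V ε {a, b}, e * w = w * e := by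
      intro e he w hw
      exact hE4 w (h.U_ab hw) (fun e he => h1 _ (mem_Cm (h.EQ he) hw)) e he
    set Y : Subgroup G := YG ε {a, b} ⊓ centralizer (UG V ε {a, b} : Set G) with hY
    refine le_o2_of (Y := Y) h.Eo ?_ ?_ inf_le_left ?_
    · exact fun e he => mem_inf.2 ⟨(h.EQ.trans (h.fam.qc a)).trans (h.cV_le a b) he,
        mem_centralizer_iff.2 fun w hw => (hEU e he w hw).symm⟩
    · exact inf_le_right.trans (centralizer_le (le_Cl V _))
    · exact le_normalizer_of_forall fun x hx y hy => mem_inf.2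
        ⟨mul_mem (mul_mem hx hy.1) (inv_mem hx), mem_centralizer_iff.2 fun w hw => by
          have h2 := conj_mem_of_normalizer' (le_normalizer_Cl V (YG ε {a, b})) hx hw
          have h3 := mem_centralizer_iff.1 hy.2 _ h2
          calc w * (x * y * x⁻¹) = x * (x⁻¹ * w * x * y) * x⁻¹ := by group
            _ = x * (y * (x⁻¹ * w * x)) * x⁻¹ := by rw [h3]
            _ = x * y * x⁻¹ * w := by group⟩
  have hle : UG V ε {a, b} ≤ centralizer ({t} : Set G) := by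
    unfold UG
    rw [Cl, closure_le]
    rintro _ ⟨g, hg, v, hv, rfl⟩
    have h1 : g⁻¹ * t * g ∈ YG ε {a, b} := mul_mem (mul_mem (inv_mem hg) ht) hg
    have h2 := key _ h1 (by
      intro w hw
      have hw' := conj_mem_of_normalizer (le_normalizer_Cl V (YG ε {a, b})) hg hw
      have h3 := htW _ hw'
      set c := t * (g * w * g⁻¹) * t⁻¹ * (g * w * g⁻¹)⁻¹ with hc
      have e1 : g⁻¹ * t * g * w * (g⁻¹ * t * g)⁻¹ * w⁻¹ = g⁻¹ * c * g := by rw [hc]; group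
      have e2 : g⁻¹ * c * g = c := by
        have h4 := mem_centralizer_iff.1 hg c h3
        calc g⁻¹ * c * g = g⁻¹ * (c * g) := by group
          _ = c := by rw [h4]; group
      rw [e1, e2]
      exact h3)
    have h3 := mem_centralizer_iff.1 h2 v hv
    rw [SetLike.mem_coe, mem_centralizer_singleton_iff]
    calc g * v * g⁻¹ * t = g * (v * (g⁻¹ * t * g)) * g⁻¹ := by group
      _ = g * (g⁻¹ * t * g * v) * g⁻¹ := by rw [h3]
      _ = t * (g * v * g⁻¹) := by group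
  rw [mem_centralizer_iff]
  exact fun w hw => mem_centralizer_singleton_iff.1 (hle hw)

end Mv

end fam

end Cfsg.Agent.Omega.NO3S.SN.R1.Faith
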