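import Cfsg.Agent.Omega.NO3b.Exit.TenFF

/-!
# THEOREM R1, the FF step: a line whose stabiliser in the offender has index 2

`X` acts faithfully on `V`, `T` a Sylow 2-subgroup, the stabiliser of `v₀ ∈ C_V(T)` is the unique maximal subgroup
over `T`, `V = ⟨C_V(T)^X⟩` (`Abs`).  If `1 ≠ A ≤ T` is an offender, then `|A : C_A(g v₀)| = 2` for some
`g ∈ X` (`half`; `Hf A w` says `|A : C_A(w)| = 2`).
-/

set_option autoImplicit false

namespace Cfsg.Agent.Omega.NO3S.SN.R1.Half

open Subgroup Cfsg.Agent.Lib.SL2Mat Cfsg.Agent.Omega.FFBr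
open Cfsg.Agent.Omega.NatPair (ap ap_mul ap_one ap_inv_ap ap_zero' ap_one')
open Cfsg.Agent.Omega.NO3b.Exit.TenFF

universe u

theorem two_of {X : Type*} [Group X] {A B : Subgroup X} {s : X} (hs : s ∈ A) (hsB : s ∉ B)
    (h : ∀ a ∈ A, a ∉ B → a * s ∈ B) : B.relIndex A = 2 := by
  rw [relIndex, index_eq_two_iff]
  refine ⟨⟨s, hs⟩, fun b => ?_⟩
  by_cases hb : (b : X) ∈ B
  · right
    refine ⟨hb, fun h1 => hsB ?_⟩
    have h2 : (b : X) * s ∈ B := h1
    have h3 := mul_mem (inv_mem hb) h2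
    rwa [inv_mul_cancel_left] at h3
  · exact Or.inl ⟨h b b.2 hb, hb⟩

variable {X V : Type u} [Group X] [Group V] [MulDistribMulAction X V]

/-- `|A : C_A(w)| = 2` -/
def Hf (A : Subgroup X) (w : V) : Prop := ∃ s ∈ A, s • w ≠ w ∧ ∀ a ∈ A, a • w ≠ w → (a * s) • w = w

section nat

variable {T : Sylow 2 X} {A : Subgroup X} {k : ℕ} {F : Type} [Field F] {v₀ : V}

theorem nat_half (hA : Abs X V T (MulAction.stabilizer X v₀)) (N : AbsNat F (T : Subgroup X) V k) (hk : 0 < k)
    (hAT : A ≤ T) (ho : AOff V A) : ∃ g : X, Hf A (g • v₀) := by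
  classical
  have hfix : ∀ t ∈ T, t • v₀ = v₀ := fun t ht => hA.TM ht
  let K : Subgroup X :=
    { carrier := {g | ∃ σ : Equiv.Perm (Fin k), ∀ v i, N.e (g • v) (σ i) 1 = 0 ↔ N.e v i 1 = 0}
      one_mem' := ⟨1, fun v i => by rw [one_smul, Equiv.Perm.one_apply]⟩
      mul_mem' := by
        rintro a b ⟨σ, ha⟩ ⟨τ, hb⟩
        refine ⟨σ * τ, fun v i => ?_⟩
        rw [mul_smul, Equiv.Perm.mul_apply, ha, hb]
      inv_mem' := by
        rintro a ⟨σ, ha⟩
        refine ⟨σ⁻¹, fun v i => ?_⟩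
        have h1 := ha (a⁻¹ • v) (σ⁻¹ i)
        rw [smul_inv_smul] at h1
        have e1 : σ (σ⁻¹ i) = i := σ.apply_symm_apply i
        rw [e1] at h1
        exact h1.symm }
  have hK : K ≤ MulAction.stabilizer X v₀ := by
    refine (hA.max K fun t ht => N.line t ht).resolve_right fun h1 => ?_
    obtain ⟨g, hg⟩ := N.lift fun _ => wm 1 one_ne_zero
    obtain ⟨σ, hσ⟩ : g ∈ K := by rw [h1]; trivial
    obtain ⟨v, hv⟩ := N.surj fun _ => ![1, 0]
    have h2 := (hσ v ⟨0, hk⟩).2 (by rw [hv]; rfl)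
    rw [hg.1, ap_one', hv, wm_10, wm_11] at h2
    simp at h2
  have hne : N.e v₀ ≠ 0 := by
    intro h1
    have h2 := (N.ker v₀).1 h1
    exact hA.Mne (N.gen _ hA.TM fun h B hh => hh.2 v₀ h2)
  have h1 : ∀ i, N.e v₀ i 1 = 0 := by
    intro i
    obtain ⟨t, ht, hact⟩ := N.unip fun _ => 1
    have h2 := hact.1 v₀ i
    rw [hfix t ht] at h2
    have h3 := congrFun h2 0
    rw [ap_zero', up_00, up_01, one_mul, one_mul] at h3
    exact left_eq_add.1 h3
  obtain ⟨i₀, hi₀⟩ : ∃ i, N.e v₀ i ≠ 0 := by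
    by_contra hcon
    push Not at hcon
    exact hne (funext hcon)
  have h0 : ∀ i, N.e v₀ i 0 ≠ 0 := by
    intro j hj
    obtain ⟨t, ht, h2⟩ := N.trans i₀ j
    apply hi₀
    rw [← h2, hfix t ht]
    funext x
    fin_cases x
    · exact hj
    · exact h1 j
  have hF : ∀ a : F, a ≠ 0 → a = 1 := by
    intro a ha
    obtain ⟨g, hg⟩ := N.lift fun _ => dg a ha
    have h2 : g ∈ K := by
      refine ⟨1, fun v i => ?_⟩
      rw [Equiv.Perm.one_apply, hg.1, ap_one', dg_10, dg_11, zero_mul, zero_add, mul_eq_zero]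
      exact ⟨fun h => h.resolve_left (inv_ne_zero ha), fun h => Or.inr h⟩
    have h3 : g • v₀ = v₀ := hK h2
    have h4 := hg.1 v₀ i₀
    rw [h3] at h4
    have h5 := congrFun h4 0
    rw [ap_zero', dg_00, dg_01, zero_mul, add_zero] at h5
    have h6 : (1 - a) * N.e v₀ i₀ 0 = 0 := by linear_combination h5
    rcases mul_eq_zero.1 h6 with h7 | h7
    · exact (sub_eq_zero.1 h7).symm
    · exact absurd h7 (h0 i₀)
  have h0' : ∀ i, N.e v₀ i 0 = 1 := fun i => hF _ (h0 i)
  obtain ⟨a, ha, ha1⟩ : ∃ a ∈ A, a ≠ 1 := by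
    by_contra hcon
    push Not at hcon
    exact ho.ne ((eq_bot_iff_forall _).2 hcon)
  obtain ⟨I, hI1, hI2⟩ := N.off A hAT ho
  obtain ⟨b, hbI, hb⟩ := hI1 a ha
  obtain ⟨i, hi⟩ : ∃ i, b i ≠ 0 := by
    by_contra hcon
    push Not at hcon
    apply ha1
    refine nat_unique hA N ?_
    have e : (fun i => up (b i)) = fun _ => (1 : Matrix.SpecialLinearGroup (Fin 2) F) := by
      funext j
      rw [hcon j, up_zero]
    rw [← e]
    exact hb
  have hiI : i ∈ I := by
    by_contra hcon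
    exact hi (hbI i hcon)
  obtain ⟨s, hs, hsact⟩ := hI2 (Pi.single i 1 : Fin k → F) fun j hj =>
    Pi.single_eq_of_ne (fun h1 => hj (by rw [h1]; exact hiI)) _
  let w : Matrix.SpecialLinearGroup (Fin 2) F := wm 1 one_ne_zero
  let C : Fin k → Matrix.SpecialLinearGroup (Fin 2) F := Function.update (fun _ => 1) i w
  obtain ⟨g, hg⟩ := N.lift C
  have hCi : C i = w := Function.update_self _ _ _
  have hCj : ∀ j, j ≠ i → C j = 1 := fun j hj => Function.update_of_ne hj _ _
  have key : ∀ (x : X) (c : Fin k → F), AActs N.e x (fun j => up (c j)) →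
      (x • g • v₀ = g • v₀ ↔ c i = 0) := by
    intro x c hx
    constructor
    · intro h2
      have h3 := hx.1 (g • v₀) i
      rw [h2] at h3
      have h4 := congrFun h3 0
      rw [ap_zero', up_00, up_01, hg.1, hCi, ap_one', wm_10, wm_11, h0', h1] at h4
      simpa using h4
    · intro hc
      have h2 := aacts_mul (aacts_mul (aacts_inv hg) hx) hg
      have h3 : g⁻¹ * x * g ∈ K := by
        refine ⟨1, fun v j => ?_⟩
        rw [Equiv.Perm.one_apply, h2.1]
        dsimp only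
        by_cases hj : j = i
        · rw [hj, hc, up_zero, mul_one, inv_mul_cancel, ap_one]
        · rw [hCj j hj, inv_one, one_mul, mul_one, ap_one', up_10, up_11, zero_mul, zero_add, one_mul]
      have h4 : (g⁻¹ * x * g) • v₀ = v₀ := hK h3
      rwa [mul_smul, mul_smul, inv_smul_eq_iff] at h4
  refine ⟨g, s, hs, fun h2 => ?_, fun x hx hxB => ?_⟩
  · have h3 := (key s _ hsact).1 h2
    rw [Pi.single_eq_same] at h3
    exact one_ne_zero h3
  · obtain ⟨c, -, hc⟩ := hI1 x hx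
    have h2 : c i = 1 := hF _ fun h3 => hxB ((key x c hc).2 h3)
    have h3 := aacts_mul hc hsact
    have e : (fun j => up (c j) * up ((Pi.single i 1 : Fin k → F) j)) =
        fun j => up (c j + (Pi.single i 1 : Fin k → F) j) := by
      funext j
      rw [up_mul]
    rw [e] at h3
    refine (key _ _ h3).2 ?_
    rw [Pi.single_eq_same, h2]
    by_contra h4
    have h5 := hF _ h4
    have h6 : (1 : F) = 0 := by linear_combination h5
    exact one_ne_zero h6

end nat

section sym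

variable {T : Sylow 2 X} {A : Subgroup X} {k m : ℕ} {v₀ : V}

theorem sym_unique [Finite X] (hA : Abs X V T (MulAction.stabilizer X v₀)) (N : AbsSym (T : Subgroup X) V k m) {h : X}
    (hh : AActsSym N.e h 1 fun _ => 1) (hd : ∀ d ∈ odd X V, h • d = d) : h = 1 := by
  let K : Subgroup X :=
    { carrier := {h | (∀ v : V, h • v * v⁻¹ ∈ odd X V) ∧ ∀ d ∈ odd X V, h • d = d}
      one_mem' := ⟨fun v => by rw [one_smul, mul_inv_cancel]; exact one_mem _, fun d _ => one_smul _ d⟩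
      mul_mem' := by
        rintro a b ⟨ha, ha'⟩ ⟨hb, hb'⟩
        refine ⟨fun v => ?_, fun d hd => by rw [mul_smul, hb' d hd, ha' d hd]⟩
        have e : (a * b) • v * v⁻¹ = a • (b • v) * (b • v)⁻¹ * (b • v * v⁻¹) := by rw [mul_smul]; group
        rw [e]
        exact mul_mem (ha _) (hb v)
      inv_mem' := by
        rintro a ⟨ha, ha'⟩
        refine ⟨fun v => ?_, fun d hd => by rw [inv_smul_eq_iff, ha' d hd]⟩
        have h1 := ha (a⁻¹ • v)
        rw [smul_inv_smul] at h1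
        have e : a⁻¹ • v * v⁻¹ = (v * (a⁻¹ • v)⁻¹)⁻¹ := by group
        rw [e]
        exact inv_mem h1 }
  have hKn : K.Normal := by
    refine ⟨fun n hn g => ⟨fun v => ?_, fun d hd => ?_⟩⟩
    · have e : (g * n * g⁻¹) • v * v⁻¹ = g • (n • (g⁻¹ • v) * (g⁻¹ • v)⁻¹) := by
        rw [smul_mul', smul_inv', smul_inv_smul, mul_smul, mul_smul]
      rw [e]
      exact odd_smul (hn.1 _) g
    · rw [mul_smul, mul_smul, hn.2 _ (odd_smul hd g⁻¹), smul_inv_smul]
  have hK2 : IsPGroup 2 K := by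
    rintro ⟨n, hn⟩
    refine ⟨1, Subtype.ext ?_⟩
    change n ^ 2 ^ 1 = 1
    refine hA.faith _ fun v => ?_
    rw [pow_one, pow_two, mul_smul]
    have h1 := hn.1 v
    have h2 : n • v = n • v * v⁻¹ * v := by group
    rw [h2, smul_mul', hn.2 _ h1]
    have h3 : n • v * v⁻¹ * (n • v) = n • v * v⁻¹ * (n • v * v⁻¹ * v) := by rw [← h2]
    rw [h3, ← mul_assoc, hA.sq, one_mul]
  have h1 := hA.core K hKn hK2
  have h2 : h ∈ K := by
    refine ⟨fun v => ?_, hd⟩
    rw [← N.ker, sym_br, sub_eq_zero]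
    funext i x
    have := hh v i x
    rwa [Equiv.Perm.one_apply, Equiv.Perm.one_apply] at this
  rwa [h1, mem_bot] at h2

theorem sym_half [Finite X] (hA : Abs X V T (MulAction.stabilizer X v₀)) (N : AbsSym (T : Subgroup X) V k m) (hk : 0 < k)
    (hm : 2 ≤ m) (hAT : A ≤ T) (ho : AOff V A) : ∃ g : X, Hf A (g • v₀) := by
  classical
  have hfix : ∀ t ∈ T, t • v₀ = v₀ := fun t ht => hA.TM ht
  let K : Subgroup X :=
    { carrier := {g | ∀ v, (∀ i, N.e (g • v) i 0 = 0) ↔ ∀ i, N.e v i 0 = 0}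
      one_mem' := fun v => by rw [one_smul]
      mul_mem' := by
        rintro a b ha hb v
        rw [mul_smul, ha, hb]
      inv_mem' := by
        rintro a ha v
        have h1 := ha (a⁻¹ • v)
        rw [smul_inv_smul] at h1
        exact h1.symm }
  have hKof : ∀ (g : X) (σ : Equiv.Perm (Fin k)) (τ : Fin k → Equiv.Perm (Fin (2 ^ m + 1))),
      AActsSym N.e g σ τ → (∀ i, τ i 0 = 0) → g ∈ K := by
    intro g σ τ hg hτ v
    have h1 : ∀ i, N.e (g • v) (σ i) 0 = N.e v i 0 := fun i => by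
      have := hg v i 0
      rwa [hτ i] at this
    constructor
    · intro h2 i
      rw [← h1, h2]
    · intro h2 i
      obtain ⟨j, rfl⟩ := σ.surjective i
      rw [h1, h2]
  have hcard : 4 ≤ 2 ^ m := by
    calc 4 = 2 ^ 2 := by norm_num
      _ ≤ 2 ^ m := Nat.pow_le_pow_right (by norm_num) hm
  obtain ⟨p1, p2, hp1, hp2, hp12⟩ : ∃ p1 p2 : Fin (2 ^ m + 1), p1 ≠ 0 ∧ p2 ≠ 0 ∧ p1 ≠ p2 := by
    refine ⟨⟨1, by omega⟩, ⟨2, by omega⟩, ?_, ?_, ?_⟩ <;> simp [Fin.ext_iff]
  have hK : K ≤ MulAction.stabilizer X v₀ := by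
    refine (hA.max K fun t ht => ?_).resolve_right fun h1 => ?_
    · obtain ⟨σ, τ, h2⟩ := N.perm t
      exact hKof t σ τ h2 fun i => N.fix0 t ht σ τ h2 i
    · obtain ⟨g, hg, -⟩ := N.lift fun _ => Equiv.swap 0 p1
      have h2 : g ∈ K := by rw [h1]; trivial
      obtain ⟨v, hv⟩ := N.surj (fun _ => Pi.single p1 1 + Pi.single p2 1) (by
        intro i
        simp only [Pi.add_apply, Finset.sum_add_distrib, Finset.sum_pi_single']
        simp
        decide)
      have h3 := (h2 v).2 (fun i => by rw [hv]; simp [hp1.symm, hp2.symm]) ⟨0, hk⟩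
      have h4 := hg v ⟨0, hk⟩ p1
      rw [Equiv.swap_apply_right, Equiv.Perm.one_apply, h3, hv] at h4
      simp [hp12] at h4
  have hne : N.e v₀ ≠ 0 := by
    intro h1
    have h2 := (N.ker v₀).1 h1
    exact hA.Mne (N.gen _ hA.TM fun h B _ hh => hh v₀ h2)
  -- the coordinates of `v₀`
  have hconst : ∀ i x y, x ≠ 0 → y ≠ 0 → N.e v₀ i x = N.e v₀ i y := by
    intro i x y hx hy
    obtain ⟨g, hg, -⟩ := N.lift fun _ => Equiv.swap x y
    have h1 : g • v₀ = v₀ := hK (hKof g 1 _ hg fun _ => Equiv.swap_apply_of_ne_of_ne hx.symm hy.symm)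
    have h2 := hg v₀ i x
    rw [Equiv.swap_apply_left, Equiv.Perm.one_apply, h1] at h2
    exact h2.symm
  have hzero : ∀ i, N.e v₀ i 0 = 0 := by
    intro i
    have h1 := N.even v₀ i
    rw [Fin.sum_univ_succ] at h1
    have h2 : ∀ x : Fin (2 ^ m), N.e v₀ i x.succ = N.e v₀ i p1 := fun x => hconst i _ _ (Fin.succ_ne_zero x) hp1
    rw [Finset.sum_congr rfl fun x _ => h2 x, Finset.sum_const, Finset.card_univ, Fintype.card_fin] at h1
    have h3 : (2 ^ m) • N.e v₀ i p1 = 0 := by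
      obtain ⟨c, rfl⟩ : ∃ c, m = c + 1 := ⟨m - 1, by omega⟩
      rw [pow_succ', mul_smul, two_smul]
      exact CharTwo.add_self_eq_zero _
    rw [h3, add_zero] at h1
    exact h1
  have hall : ∀ i x, x ≠ 0 → N.e v₀ i x = 1 := by
    obtain ⟨i₀, x₀, hi₀⟩ : ∃ i x, N.e v₀ i x ≠ 0 := by
      by_contra hcon
      push Not at hcon
      exact hne (funext fun i => funext fun x => hcon i x)
    intro j x hx
    obtain ⟨t, ht, σ, τ, h1, h2⟩ := N.trans i₀ j
    have h3 := h1 v₀ i₀ x₀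
    rw [hfix t ht, h2] at h3
    have h4 : N.e v₀ j (τ i₀ x₀) ≠ 0 := by rw [h3]; exact hi₀
    have h5 : τ i₀ x₀ ≠ 0 := fun h6 => h4 (by rw [h6, hzero])
    rw [hconst j x _ hx h5]
    have h7 : ∀ c : ZMod 2, c ≠ 0 → c = 1 := by decide
    exact h7 _ h4
  -- a moved letter
  obtain ⟨hodd, hoff⟩ := N.off A hAT ho
  obtain ⟨a, ha, ha1⟩ : ∃ a ∈ A, a ≠ 1 := by
    by_contra hcon
    push Not at hcon
    exact ho.ne ((eq_bot_iff_forall _).2 hcon)
  obtain ⟨τ, hτ, hτ2⟩ := hoff a ha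
  obtain ⟨i, x, hx⟩ : ∃ i x, τ i x ≠ x := by
    by_contra hcon
    push Not at hcon
    apply ha1
    refine sym_unique hA N ?_ (hodd a ha)
    intro v i x
    have := hτ v i x
    rwa [hcon i x] at this
  obtain ⟨hxx, s, hs, hsact⟩ := hτ2 i x hx
  set y := τ i x with hy
  have hT0 : ∀ j, (Function.update (1 : Fin k → Equiv.Perm (Fin (2 ^ m + 1))) i (Equiv.swap x y)) j 0 = 0 :=
    N.fix0 s (hAT hs) _ _ hsact
  have hxy : Equiv.swap x y 0 = 0 := by
    have := hT0 i
    rwa [Function.update_self] at this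
  have hx0 : x ≠ 0 := by
    rintro rfl
    rw [Equiv.swap_apply_left] at hxy
    exact hx hxy
  have hy0 : y ≠ 0 := by
    intro h1
    rw [h1, Equiv.swap_apply_right] at hxy
    exact hx0 hxy
  let C : Fin k → Equiv.Perm (Fin (2 ^ m + 1)) := Function.update 1 i (Equiv.swap 0 x)
  obtain ⟨g, hg, -⟩ := N.lift C
  have hCi : C i = Equiv.swap 0 x := Function.update_self _ _ _
  have hCj : ∀ j, j ≠ i → C j = 1 := fun j hj => Function.update_of_ne hj _ _
  -- the coordinates of `g v₀`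
  have hgx : N.e (g • v₀) i x = 0 := by
    have := hg v₀ i 0
    rw [hCi, Equiv.swap_apply_left, Equiv.Perm.one_apply, hzero] at this
    exact this
  have hgy : ∀ z, z ≠ x → N.e (g • v₀) i z = 1 := by
    intro z hz
    have h1 := hg v₀ i (Equiv.swap 0 x z)
    rw [hCi, Equiv.swap_apply_self, Equiv.Perm.one_apply] at h1
    rw [h1]
    refine hall i _ fun h2 => hz ?_
    have h3 := (Equiv.swap_apply_self 0 x z).symm
    rwa [h2, Equiv.swap_apply_left] at h3
  have key : ∀ (b : X) (ρ : Fin k → Equiv.Perm (Fin (2 ^ m + 1))), b ∈ A → AActsSym N.e b 1 ρ →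
      (b • g • v₀ = g • v₀ ↔ ρ i x = x) := by
    intro b ρ hbA hb
    constructor
    · intro h1
      have h2 := hb (g • v₀) i x
      rw [h1, Equiv.Perm.one_apply, hgx] at h2
      by_contra h3
      rw [hgy _ h3] at h2
      exact one_ne_zero h2
    · intro h1
      have hb0 := N.fix0 b (hAT hbA) 1 ρ hb
      have h2 := acts_mul (acts_mul (acts_inv hg) hb) hg
      have h3 : g⁻¹ * b * g ∈ K := by
        refine hKof _ _ _ h2 fun j => ?_
        change ((C j)⁻¹ * ρ j * C j) 0 = 0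
        by_cases hj : j = i
        · rw [hj, hCi, Equiv.Perm.mul_apply, Equiv.Perm.mul_apply, Equiv.swap_apply_left, h1, Equiv.swap_inv,
            Equiv.swap_apply_right]
        · rw [hCj j hj, inv_one, one_mul, mul_one, hb0]
      have h4 : (g⁻¹ * b * g) • v₀ = v₀ := hK h3
      rwa [mul_smul, mul_smul, inv_smul_eq_iff] at h4
  refine ⟨g, s, hs, fun h2 => ?_, fun b hb hbB => ?_⟩
  · have h3 := (key s _ hs hsact).1 h2
    rw [Function.update_self, Equiv.swap_apply_left] at h3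
    exact hx h3
  · obtain ⟨ρ, hρ, hρ2⟩ := hoff b hb
    have h1 : ρ i x ≠ x := fun h2 => hbB ((key b ρ hb hρ).2 h2)
    obtain ⟨h3, c, hc, hcact⟩ := hρ2 i x h1
    -- `c` and `s` commute
    have h4 : ρ i x = y := by
      by_contra hne
      have e1 : (s * c) • g • v₀ = (c * s) • g • v₀ := by rw [ho.comm s hs c hc]
      have h5 := acts_mul hsact hcact (g • v₀) i x
      have h6 := acts_mul hcact hsact (g • v₀) i x
      rw [e1] at h5
      simp only [Equiv.Perm.one_apply, Equiv.Perm.mul_apply, Function.update_self, Equiv.swap_apply_left,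
        mul_one] at h5 h6
      rw [Equiv.swap_apply_of_ne_of_ne (a := x) (b := y) (x := ρ i x) h1 hne] at h5
      rw [Equiv.swap_apply_of_ne_of_ne (a := x) (b := ρ i x) (x := y) hx (Ne.symm hne)] at h6
      -- `e (..) (ρ i x) = e (g v₀) x = e (..) y`, and it is the only zero
      have h7 : N.e (g • v₀) i x = 0 := hgx
      have h8 := acts_mul hcact hsact (g • v₀) i y
      simp only [Equiv.Perm.one_apply, Equiv.Perm.mul_apply, Function.update_self, Equiv.swap_apply_right,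
        Equiv.swap_apply_left, mul_one] at h8
      rw [h5, hgx, hgy y hx] at h8
      exact zero_ne_one h8
    refine (key _ _ (mul_mem hb hs) (acts_mul hρ hsact)).2 ?_
    change (ρ i * (Function.update (1 : Fin k → Equiv.Perm (Fin (2 ^ m + 1))) i (Equiv.swap x y)) i) x = x
    rw [Function.update_self, Equiv.Perm.mul_apply, Equiv.swap_apply_left, ← h4, h3]

end sym

/-- **The FF step** -/
theorem half [Finite X] {T : Sylow 2 X} {A : Subgroup X} {v₀ : V} (hA : Abs X V T (MulAction.stabilizer X v₀))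
    (hc : AConcl (T : Subgroup X) V) (hAT : A ≤ T) (ho : AOff V A) : ∃ g : X, Hf A (g • v₀) := by
  rcases hc with ⟨F, _, _, _, k, hk, ⟨N⟩⟩ | ⟨k, m, hk, hm, ⟨N⟩⟩
  · exact nat_half hA N hk hAT ho
  · exact sym_half hA N hk hm hAT ho

end Cfsg.Agent.Omega.NO3S.SN.R1.Half
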