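import Cfsg.Agent.Omega.NO3S.SN.R1.Bas
import Cfsg.Agent.Omega.NO3S.SN.R1.Half
import Cfsg.Agent.Omega.NO3S.SN2.FF.Concl

/-!
# THEOREM R1 (4): the FF step (helper430 #22327 (4), `|E| ≥ 4` after helper62 #22855)

`D < V ≤ W`, `|V : D| = 2`; `R ≤ C_G(D)` is minimal over the 2-group `T ≤ N(V)`, `T` a Sylow 2-subgroup of `R`, outside
`N(V)`; `A ≤ T` acts on `W` as a minimal best offender, `|A : C_A(W)| ≠ 2`, the elements of `A` which normalise a
line `V^x`, `x ∈ R`, centralise it.  Then `A` centralises `W_R = ⟨V^R⟩` (`four`).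
-/

set_option autoImplicit false

namespace Cfsg.Agent.Omega.NO3S.SN.R1

open Subgroup Cfsg Cfsg.Agent.ZN Cfsg.Agent.Omega.FFBr Cfsg.Agent.Omega.NO3S.SN2.FF
open Cfsg.Agent.MinSimple.MinParabolic
open Cfsg.Agent.Omega.FFThm (ElemM)

universe u

variable {G : Type u} [Group G]

/-- `R ≤ C_G(D)` is minimal over its Sylow 2-subgroup `T ≤ N(V)` outside `N(V)` -/
structure RR (V D T R : Subgroup G) : Prop where
  TR : T ≤ R
  TN : T ≤ normalizer (V : Set G)
  two : IsPGroup 2 T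
  syl : ¬ 2 ∣ T.relIndex R
  RD : R ≤ centralizer (D : Set G)
  notN : ¬ R ≤ normalizer (V : Set G)
  min : ∀ K : Subgroup G, T ≤ K → K ≤ R → ¬ K ≤ normalizer (V : Set G) → K = R

theorem Cl_le_of {V R K : Subgroup G} (h : ∀ g ∈ R, ∀ w ∈ V, g * w * g⁻¹ ∈ K) : Cl V R ≤ K := by
  rw [Cl, closure_le]
  rintro _ ⟨g, hg, w, hw, rfl⟩
  exact h g hg w hw

section

variable {V D T R W A : Subgroup G}

theorem exists_gen (h2 : D.relIndex V = 2) : ∃ h ∈ V, h ∉ D ∧ ∀ v ∈ V, v ∈ D ∨ v * h⁻¹ ∈ D := by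
  obtain ⟨⟨a, haV⟩, ha⟩ := index_eq_two_iff.1 h2
  have h3 := ha 1
  have h1D : (1 : V) ∈ D.subgroupOf V := one_mem _
  have haD : a ∉ D := by
    intro h4
    rcases h3 with h5 | h5
    · exact h5.2 h1D
    · apply h5.2
      rw [one_mul]
      exact h4
  refine ⟨a, haV, haD, fun v hv => ?_⟩
  by_cases hvD : v ∈ D
  · exact Or.inl hvD
  right
  have h4 : ∀ w : V, (w : G) ∉ D → (w : G) * a ∈ D := by
    intro w hw
    rcases ha w with h5 | h5
    · exact h5.1
    · exact absurd h5.1 hw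
  have ha' : (a⁻¹ : G) ∉ D := fun h5 => haD (inv_mem_iff.1 h5)
  -- `a⁻¹ * a = 1`, `v a ∈ D`, `a a ∈ D`
  have h5 : v * a ∈ D := h4 ⟨v, hv⟩ hvD
  have h6 : a * a ∈ D := h4 ⟨a, haV⟩ haD
  have e : v * a⁻¹ = v * a * (a * a)⁻¹ := by group
  rw [e]
  exact mul_mem h5 (inv_mem h6)

set_option maxHeartbeats 400000 in
/-- **The FF step** -/
theorem four [Finite G] (hF : AStmt.{u}) (rr : RR V D T R) (hDV : D ≤ V) (hD2 : D.relIndex V = 2) (hVW : V ≤ W)
    (hRW : R ≤ normalizer (W : Set G)) (Wc : ∀ a ∈ W, ∀ b ∈ W, a * b = b * a) (Ws : ∀ a ∈ W, a * a = 1)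
    (hB : Best W A) (h4 : (centralizer (W : Set G)).relIndex A ≠ 2) (hAT : A ≤ T)
    (st : ∀ x ∈ R, ∀ a ∈ A, x⁻¹ * a * x ∈ normalizer (V : Set G) → x⁻¹ * a * x ∈ centralizer (V : Set G)) :
    A ≤ centralizer (Cl V R : Set G) := by
  classical
  have hfact : Fact (Nat.Prime 2) := ⟨Nat.prime_two⟩
  by_contra hcon
  obtain ⟨h, hhV, hhD, hh⟩ := exists_gen hD2
  set M : Subgroup G := Cl V R with hM
  have hVM : V ≤ M := le_Cl V R
  have hMW : M ≤ W := Cl_le_of fun g hg w hw => (mem_normalizer_iff.1 (hRW hg) w).1 (hVW hw)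
  have hDM : D ≤ M := hDV.trans hVM
  have hRM : R ≤ normalizer (M : Set G) := le_normalizer_Cl V R
  have hconjM : ∀ {g v : G}, g ∈ R → v ∈ M → g * v * g⁻¹ ∈ M := fun hg hv =>
    (mem_normalizer_iff.1 (hRM hg) _).1 hv
  have hRD : ∀ d ∈ D, ∀ g ∈ R, g * d = d * g := fun d hd g hg => (mem_centralizer_iff.1 (rr.RD hg) d hd).symm
  have hDW : D ≤ W := hDM.trans hMW
  have hAR : A ≤ R := hAT.trans rr.TR
  have hn : (D.subgroupOf M).Normal := by
    refine ⟨fun d hd x => ?_⟩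
    have h1 : x * d * x⁻¹ = d := Subtype.ext (by
      change (x : G) * d * (x : G)⁻¹ = d
      rw [Wc x (hMW x.2) d (hMW d.2), mul_inv_cancel_right])
    rw [h1]
    exact hd
  let _ : MulDistribMulAction R (M ⧸ D.subgroupOf M) := qact hRM hRD hn
  set N := M ⧸ D.subgroupOf M with hN
  have hact : ∀ (g : R) (v w : M), (w : G) = g * v * (g : G)⁻¹ →
      g • (QuotientGroup.mk v : N) = QuotientGroup.mk w := by
    intro g v w hw
    change QuotientGroup.mk ((act hRM g : M ≃* M) v) = (QuotientGroup.mk w : N)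
    congr 1
    exact Subtype.ext hw.symm
  have mk_eq : ∀ {v w : M}, (QuotientGroup.mk v : N) = QuotientGroup.mk w ↔ (v : G) * (w : G)⁻¹ ∈ D := by
    intro v w
    rw [QuotientGroup.eq, mem_subgroupOf]
    have h1 : ((v⁻¹ * w : M) : G) = ((v : G) * (w : G)⁻¹)⁻¹ := by
      change (v : G)⁻¹ * w = _
      rw [mul_inv_rev, inv_inv]
      exact Wc _ (inv_mem (hMW v.2)) _ (hMW w.2)
    rw [h1]
    exact inv_mem_iff
  have smul_eq : ∀ {g : R} {v : M}, g • (QuotientGroup.mk v : N) = QuotientGroup.mk v ↔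
      (g : G) * v * (g : G)⁻¹ * (v : G)⁻¹ ∈ D := by
    intro g v
    rw [hact g v ⟨g * v * (g : G)⁻¹, hconjM g.2 v.2⟩ rfl, mk_eq]
  have smul_eq2 : ∀ {g x : R} {v : M}, g • x • (QuotientGroup.mk v : N) = x • QuotientGroup.mk v ↔
      ((x : G)⁻¹ * g * x) * v * ((x : G)⁻¹ * g * x)⁻¹ * (v : G)⁻¹ ∈ D := by
    intro g x v
    rw [← inv_smul_eq_iff, ← mul_smul, ← mul_smul, smul_eq]
    exact Iff.rfl
  -- the Sylow subgroup and the maximal subgroup
  obtain ⟨P, hP⟩ : ∃ P : Sylow 2 R, (P : Subgroup R) = T.subgroupOf R := by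
    have h1 : IsPGroup 2 (T.subgroupOf R) := rr.two.comap_of_injective _ R.subtype_injective
    exact ⟨h1.toSylow rr.syl, rfl⟩
  set M₁ : Subgroup R := (normalizer (V : Set G)).subgroupOf R with hM₁
  have hmin : IsMin (P : Subgroup R) M₁ := by
    refine ⟨fun h1 => rr.notN (subgroupOf_eq_top.1 h1), fun K hK hK1 => ?_⟩
    by_contra hc2
    apply hK1
    have h2 : K.map R.subtype = R := by
      apply rr.min
      · rw [hP] at hK
        have := map_mono (f := R.subtype) hK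
        rwa [subgroupOf_map_subtype, inf_eq_left.2 rr.TR] at this
      · exact map_subtype_le _
      · intro h3
        apply hc2
        rw [hM₁, Subgroup.subgroupOf, ← map_le_iff_le_comap]
        exact h3
    have h5 := comap_map_eq_self_of_injective R.subtype_injective K
    rw [← h5, h2]
    exact subgroupOf_self R
  -- `g ∈ R` normalises `V` iff it fixes `v₀ = V / D`
  have hnorm : ∀ g ∈ R, g ∈ normalizer (V : Set G) ↔ g * h * g⁻¹ * h⁻¹ ∈ D := by
    have h1 : ∀ g ∈ R, g * h * g⁻¹ * h⁻¹ ∈ D → ∀ v ∈ V, g * v * g⁻¹ ∈ V := by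
      intro g hg hgh v hv
      rcases hh v hv with hd | hd
      · rw [hRD v hd g hg, mul_inv_cancel_right]
        exact hv
      · have e : g * v * g⁻¹ = (g * (v * h⁻¹) * g⁻¹) * (g * h * g⁻¹ * h⁻¹) * h := by group
        rw [e, hRD _ hd g hg, mul_inv_cancel_right]
        exact mul_mem (mul_mem (hDV hd) (hDV hgh)) hhV
    intro g hg
    constructor
    · intro hgN
      have h2 : g * h * g⁻¹ ∈ V := (mem_normalizer_iff.1 hgN h).1 hhV
      rcases hh _ h2 with hd | hd
      · exfalso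
        apply hhD
        have h3 := hRD _ hd g⁻¹ (inv_mem hg)
        have e : h = g⁻¹ * (g * h * g⁻¹) * g := by group
        rw [e, h3, inv_mul_cancel_right]
        exact hd
      · exact hd
    · intro hgh
      have h2 : g⁻¹ * h * g⁻¹⁻¹ * h⁻¹ ∈ D := by
        have h3 := hRD _ hgh g⁻¹ (inv_mem hg)
        have h5 : h * g⁻¹ * h⁻¹ * g = g * h * g⁻¹ * h⁻¹ := by
          calc h * g⁻¹ * h⁻¹ * g = g⁻¹ * (g * h * g⁻¹ * h⁻¹) * g := by group
            _ = _ := by rw [h3, inv_mul_cancel_right]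
        have e : g⁻¹ * h * g⁻¹⁻¹ * h⁻¹ = (h * g⁻¹ * h⁻¹ * g)⁻¹ := by group
        rw [e, h5]
        exact inv_mem hgh
      rw [mem_normalizer_iff]
      refine fun v => ⟨fun hv => h1 g hg hgh v hv, fun hv => ?_⟩
      have h3 := h1 g⁻¹ (inv_mem hg) h2 _ hv
      have e : g⁻¹ * (g * v * g⁻¹) * g⁻¹⁻¹ = v := by group
      rwa [e] at h3
  set m₀ : M := ⟨h, hVM hhV⟩ with hm₀
  set v₀ : N := QuotientGroup.mk m₀ with hv₀
  have hfixP : ∀ t ∈ P, t • v₀ = v₀ := by
    intro t ht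
    have ht' : t ∈ (P : Subgroup R) := ht
    rw [hP] at ht'
    exact smul_eq.2 ((hnorm t t.2).1 (rr.TN ht'))
  obtain ⟨S, hS, habs⟩ := abs_of_act (Γ := R) (N := N) (P := P) hmin
    (by
      intro v w
      obtain ⟨v, rfl⟩ := QuotientGroup.mk_surjective v
      obtain ⟨w, rfl⟩ := QuotientGroup.mk_surjective w
      rw [← QuotientGroup.mk_mul, ← QuotientGroup.mk_mul]
      congr 1
      exact Subtype.ext (Wc v (hMW v.2) w (hMW w.2)))
    (by
      intro v
      obtain ⟨v, rfl⟩ := QuotientGroup.mk_surjective v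
      rw [← QuotientGroup.mk_mul, ← QuotientGroup.mk_one]
      congr 1
      exact Subtype.ext (Ws v (hMW v.2)))
    (by
      intro U hU
      have h2 : M ≤ (U.comap (QuotientGroup.mk' (D.subgroupOf M))).map M.subtype := by
        refine Cl_le_of fun x hx v hv => ?_
        refine ⟨⟨x * v * x⁻¹, hconjM hx (hVM hv)⟩, ?_, rfl⟩
        change (QuotientGroup.mk (⟨x * v * x⁻¹, hconjM hx (hVM hv)⟩ : M) : N) ∈ U
        rw [← hact ⟨x, hx⟩ ⟨v, hVM hv⟩ ⟨x * v * x⁻¹, hconjM hx (hVM hv)⟩ rfl]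
        rcases hh v hv with hd | hd
        · have h3 : (QuotientGroup.mk (⟨v, hVM hv⟩ : M) : N) = 1 := (QuotientGroup.eq_one_iff _).2 hd
          rw [h3, smul_one]
          exact one_mem _
        · have h3 : (QuotientGroup.mk (⟨v, hVM hv⟩ : M) : N) = v₀ := mk_eq.2 hd
          rw [h3]
          exact hU _ hfixP _
      rw [eq_top_iff]
      intro q _
      obtain ⟨v, rfl⟩ := QuotientGroup.mk_surjective q
      obtain ⟨w, hw, hwv⟩ := h2 v.2
      have h4 : w = v := Subtype.ext hwv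
      rw [← h4]
      exact hw)
    (by
      refine ⟨v₀, hfixP, ?_⟩
      by_contra hc2
      push Not at hc2
      exact rr.notN fun g hg => (hnorm g hg).2 (smul_eq.1 (hc2 ⟨g, hg⟩)))
  have hMstab : M₁.map (prG R N) = MulAction.stabilizer (XG R N) v₀ := by
    ext x
    constructor
    · rintro ⟨g, hg, rfl⟩
      rw [MulAction.mem_stabilizer_iff, prG_smul]
      exact smul_eq.2 ((hnorm g g.2).1 hg)
    · intro hx
      obtain ⟨g, rfl⟩ := prG_surjective x
      rw [MulAction.mem_stabilizer_iff, prG_smul] at hx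
      exact ⟨g, (hnorm g g.2).2 (smul_eq.1 hx), rfl⟩
  rw [hMstab] at habs
  -- the offender
  set A' : Subgroup (XG R N) := (A.subgroupOf R).map (prG R N) with hA'
  -- elements of `A` which are trivial on `M / D` centralise `M`
  have htriv : ∀ a ∈ A, (∀ v ∈ M, a * v * a⁻¹ * v⁻¹ ∈ D) → a ∈ centralizer (M : Set G) := by
    intro a ha h1
    have h2 : M ≤ centralizer ({a} : Set G) := by
      refine Cl_le_of fun x hx v hv => ?_
      have h3 : x⁻¹ * a * x ∈ centralizer (V : Set G) := by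
        refine st x hx a ha ((hnorm _ (mul_mem (mul_mem (inv_mem hx) (hAR ha)) hx)).2 ?_)
        have h4 := h1 _ (hconjM hx (hVM hhV))
        have h5 := hRD _ h4 x⁻¹ (inv_mem hx)
        have e : x⁻¹ * a * x * h * (x⁻¹ * a * x)⁻¹ * h⁻¹ =
            (x⁻¹ * (a * (x * h * x⁻¹) * a⁻¹ * (x * h * x⁻¹)⁻¹)) * x := by group
        rw [e, h5, inv_mul_cancel_right]
        exact h4
      have h6 := mem_centralizer_iff.1 h3 v hv
      rw [mem_centralizer_singleton_iff]
      calc x * v * x⁻¹ * a = x * (v * (x⁻¹ * a * x)) * x⁻¹ := by group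
        _ = x * ((x⁻¹ * a * x) * v) * x⁻¹ := by rw [h6]
        _ = a * (x * v * x⁻¹) := by group
    rw [mem_centralizer_iff]
    exact fun v hv => mem_centralizer_singleton_iff.1 (h2 hv)
  have hker : ∀ g : R, prG R N g = 1 ↔ ∀ v ∈ M, (g : G) * v * (g : G)⁻¹ * v⁻¹ ∈ D := by
    intro g
    rw [prG_eq_one]
    constructor
    · exact fun h1 v hv => smul_eq.1 (h1 (QuotientGroup.mk ⟨v, hv⟩))
    · intro h1 q
      obtain ⟨v, rfl⟩ := QuotientGroup.mk_surjective q
      exact smul_eq.2 (h1 v v.2)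
  have hkerW : ∀ g : R, (g : G) ∈ centralizer (W : Set G) → prG R N g = 1 := by
    intro g hg
    rw [hker]
    intro v hv
    have h1 := mem_centralizer_iff.1 hg v (hMW hv)
    rw [← h1, mul_inv_cancel_right, mul_inv_cancel]
    exact one_mem _
  -- `|im A| = |A : C_A(M)|`
  set A₀ : Subgroup G := A ⊓ centralizer (M : Set G) with hA₀
  have hcard : Nat.card A' = A₀.relIndex A := by
    have h1 : (prG R N).ker.relIndex (A.subgroupOf R) = Nat.card A' := relIndex_ker _ _
    rw [← h1, ← relIndex_subgroupOf hAR, ← inf_relIndex_right (prG R N).ker,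
      ← inf_relIndex_right (A₀.subgroupOf R)]
    congr 1
    ext b
    constructor
    · rintro ⟨h2, h3⟩
      exact ⟨⟨h3, htriv _ h3 ((hker b).1 h2)⟩, h3⟩
    · rintro ⟨h2, h3⟩
      refine ⟨(hker b).2 fun v hv => ?_, h3⟩
      have h4 : v * (b : G) = b * v := mem_centralizer_iff.1 h2.2 v hv
      rw [← h4, mul_inv_cancel_right, mul_inv_cancel]
      exact one_mem _
  have hA₀A : A₀ < A := lt_of_le_of_ne inf_le_left fun h1 => hcon (by rw [← h1]; exact inf_le_right)
  have hpos : ∀ (K H : Subgroup G), 0 < K.relIndex H := fun K H => 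
    Nat.pos_of_ne_zero (index_ne_zero_of_finite (H := K.subgroupOf H))
  have hle : (centralizer (A : Set G)).relIndex M ≤ A₀.relIndex A := by
    have hMc : M ≤ W ⊓ centralizer (A₀ : Set G) := by
      refine le_inf hMW fun v hv => ?_
      rw [mem_centralizer_iff]
      exact fun a ha => (mem_centralizer_iff.1 ha.2 v hv).symm
    have hmono : (centralizer (A : Set G)).relIndex M ≤ (centralizer (A : Set G)).relIndex (W ⊓ centralizer (A₀ : Set G)) :=
      relIndex_le_of_le_right hMc (hpos _ _).ne'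
    refine hmono.trans ?_
    by_cases h1 : A ⊓ centralizer (W : Set G) = A₀
    · have h2 : W ⊓ centralizer (A₀ : Set G) = W := by
        rw [inf_eq_left, ← h1]
        intro w hw
        rw [mem_centralizer_iff]
        exact fun a ha => (mem_centralizer_iff.1 ha.2 w hw).symm
      rw [h2, ← h1, inf_relIndex_left]
      exact hB.off
    · refine (hB.min A₀ (lt_of_le_of_ne (le_inf inf_le_left ?_) h1) hA₀A).le
      exact inf_le_right.trans (centralizer_le hMW)
  have hoff : AOff N A' := by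
    refine ⟨?_, ?_, ?_, ?_⟩
    · rintro _ ⟨a, ha, rfl⟩ _ ⟨b, hb, rfl⟩
      rw [← mul_inv_eq_one, ← map_mul, ← map_mul, ← map_inv, ← map_mul]
      refine hkerW _ ?_
      have h1 := hB.el.comm a ha b hb
      have e : ((a * b * (b * a)⁻¹ : R) : G) = (a : G) * b * (a : G)⁻¹ * (b : G)⁻¹ := by
        change (a : G) * b * ((b : G) * a)⁻¹ = _
        group
      rw [e]
      exact h1
    · rintro _ ⟨a, ha, rfl⟩
      rw [← map_mul]
      refine hkerW _ ?_
      have h1 := hB.el.sq a ha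
      rw [sq] at h1
      exact h1
    · intro h1
      apply hcon
      intro a ha
      refine htriv a ha ((hker ⟨a, hAR ha⟩).1 ?_)
      have h2 : prG R N ⟨a, hAR ha⟩ ∈ A' := ⟨⟨a, hAR ha⟩, ha, rfl⟩
      rwa [h1, mem_bot] at h2
    · rw [hcard]
      refine le_trans ?_ hle
      set W' := ClassTwoFusion.Quad.cv N (A' : Set (XG R N)) with hW'
      have h1 : (W'.comap (QuotientGroup.mk' (D.subgroupOf M))).index = W'.index :=
        index_comap_of_surjective _ (QuotientGroup.mk'_surjective _)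
      have h2 : (centralizer (A : Set G)).subgroupOf M ≤ W'.comap (QuotientGroup.mk' (D.subgroupOf M)) := by
        intro v hv
        rw [mem_comap, hW', ClassTwoFusion.Quad.mem_cv]
        rintro _ ⟨a, ha, rfl⟩
        rw [prG_smul]
        refine smul_eq.2 ?_
        have h3 : (a : G) * v = v * a := mem_centralizer_iff.1 (mem_subgroupOf.1 hv) a ha
        rw [h3, mul_inv_cancel_right, mul_inv_cancel]
        exact one_mem _
      rw [← h1]
      have h3 := relIndex_mul_index h2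
      have h4 : ((centralizer (A : Set G)).subgroupOf M).index = (centralizer (A : Set G)).relIndex M := rfl
      rw [h4] at h3
      exact Nat.le_of_dvd (hpos _ _) ⟨_, by rw [← h3]; ring⟩
  -- the FF theorem
  have hA'S : A' ≤ (S : Subgroup (XG R N)) := by
    rintro _ ⟨a, ha, rfl⟩
    rw [hS, hP]
    exact ⟨a, hAT ha, rfl⟩
  obtain ⟨-, hcl⟩ := hF _ _ S _ habs ⟨_, hoff⟩
  obtain ⟨x, s, hs, hs1, hs2⟩ := Half.half habs hcl hA'S hoff
  have hs2' : ∀ a ∈ A', a • x • v₀ ≠ x • v₀ → ∀ y, y = a * s → y • x • v₀ = x • v₀ := by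
    rintro a ha h1 y rfl
    exact hs2 a ha h1
  clear hs2
  obtain ⟨g, rfl⟩ := prG_surjective x
  obtain ⟨s, hs, rfl⟩ := hs
  have hkey : ∀ a : R, (prG R N a • prG R N g • v₀ = prG R N g • v₀) ↔
      ((g : G)⁻¹ * a * g) ∈ normalizer (V : Set G) := by
    intro a
    rw [prG_smul, prG_smul, smul_eq2]
    exact (hnorm _ (mul_mem (mul_mem (inv_mem g.2) a.2) g.2)).symm
  -- `B = N_A(V^g)`
  let B : Subgroup G := A ⊓ (normalizer (V : Set G)).comap (MulAut.conj (g : G)⁻¹).toMonoidHom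
  have hBmem : ∀ a, a ∈ B ↔ a ∈ A ∧ (g : G)⁻¹ * a * g ∈ normalizer (V : Set G) := by
    intro a
    change a ∈ A ∧ (g : G)⁻¹ * a * (g : G)⁻¹⁻¹ ∈ normalizer (V : Set G) ↔ _
    rw [inv_inv]
  have hsB : (s : G) ∉ B := fun h1 => hs1 ((hkey s).2 ((hBmem _).1 h1).2)
  have hB2 : B.relIndex A = 2 := by
    refine Half.two_of (s := (s : G)) hs hsB fun a ha haB => ?_
    refine (hBmem _).2 ⟨mul_mem ha hs, ?_⟩
    let a' : R := ⟨a, hAR ha⟩
    have ha' : prG R N a' ∈ A' := ⟨a', ha, rfl⟩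
    have hn1 : prG R N a' • prG R N g • v₀ ≠ prG R N g • v₀ := fun h2 => haB ((hBmem _).2 ⟨ha, (hkey a').1 h2⟩)
    have hmul : prG R N (a' * s) = prG R N a' * prG R N s := map_mul (prG R N) a' s
    have h2 := hs2' (prG R N a') ha' hn1 (prG R N (a' * s)) hmul
    exact (hkey (a' * s)).1 h2
  have hAB : A ⊓ centralizer (W : Set G) ≤ B := by
    intro a ha
    refine (hBmem _).2 ⟨ha.1, (hkey ⟨a, hAR ha.1⟩).1 ?_⟩
    rw [hkerW ⟨a, hAR ha.1⟩ ha.2, one_smul]
  have hlt : A ⊓ centralizer (W : Set G) < B := by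
    refine lt_of_le_of_ne hAB fun h1 => h4 ?_
    rw [← inf_relIndex_left, h1, hB2]
  have hBA : B < A := lt_of_le_of_ne inf_le_left fun h1 => hsB (by rw [h1]; exact hs)
  have h5 := hB.min B hlt hBA
  rw [hB2] at h5
  have h6 : (centralizer (A : Set G)).relIndex (W ⊓ centralizer (B : Set G)) = 1 := by
    have := hpos (centralizer (A : Set G)) (W ⊓ centralizer (B : Set G))
    omega
  have h7 := relIndex_eq_one.1 h6
  -- `V^g ≤ C_W(B)`
  have h8 : ∀ v ∈ V, (g : G) * v * (g : G)⁻¹ ∈ centralizer (A : Set G) := by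
    intro v hv
    refine h7 (mem_inf.2 ⟨hMW (hconjM g.2 (hVM hv)), mem_centralizer_iff.2 fun b hb => ?_⟩)
    have h9 := st g g.2 b hb.1 ((hBmem b).1 hb).2
    have h10 := mem_centralizer_iff.1 h9 v hv
    calc b * ((g : G) * v * (g : G)⁻¹) = g * (((g : G)⁻¹ * b * g) * v) * (g : G)⁻¹ := by group
      _ = g * (v * ((g : G)⁻¹ * b * g)) * (g : G)⁻¹ := by rw [h10]
      _ = (g : G) * v * (g : G)⁻¹ * b := by group
  apply hsB
  refine (hBmem _).2 ⟨hs, centralizer_le_normalizer _ ?_⟩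
  rw [mem_centralizer_iff]
  intro v hv
  have h9 := mem_centralizer_iff.1 (h8 v hv) s hs
  calc v * ((g : G)⁻¹ * s * g) = (g : G)⁻¹ * (g * v * (g : G)⁻¹ * s) * g := by group
    _ = (g : G)⁻¹ * (s * (g * v * (g : G)⁻¹)) * g := by rw [h9]
    _ = (g : G)⁻¹ * s * g * v := by group

end

end Cfsg.Agent.Omega.NO3S.SN.R1
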