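import Cfsg.Agent.Omega.NO3S.SN.R1.Def

/-!
# THEOREM R1, (3') (helper62 #22855): no transposition

`Ln.three`: `[W, A] ≤ U_abc`, `x ∈ X_ab`, `e₀ ∈ A` centralises `U_ajk`, `j, k ∉ {a, b}`, and normalises the line
`V^x`; then it centralises it.
-/

set_option autoImplicit false

namespace Cfsg.Agent.Omega.NO3S.SN.R1

open Subgroup Cfsg Cfsg.Agent.ZN Cfsg.Agent.Omega.S5.Def

universe u

variable {G : Type u} [Group G]

/-! ### `Cl` -/

theorem mem_Cl {V R : Subgroup G} {g w : G} (hg : g ∈ R) (hw : w ∈ V) : g * w * g⁻¹ ∈ Cl V R :=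
  subset_closure ⟨g, hg, w, hw, rfl⟩

theorem le_Cl3 (V R : Subgroup G) : V ≤ Cl V R := fun w hw => by
  have h1 := mem_Cl (R.one_mem) hw
  simpa using h1

theorem Cl_le3 {V R W : Subgroup G} (hVW : V ≤ W) (hR : R ≤ normalizer (W : Set G)) : Cl V R ≤ W := by
  rw [Cl, closure_le]
  rintro x ⟨g, hg, w, hw, rfl⟩
  exact (mem_normalizer_iff.mp (hR hg) w).mp (hVW hw)

theorem Cl_mono3 {V R R' : Subgroup G} (h : R ≤ R') : Cl V R ≤ Cl V R' := by
  rw [Cl, closure_le]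
  rintro x ⟨g, hg, w, hw, rfl⟩
  exact mem_Cl (h hg) hw

/-- conjugation by `c` normalising `V`, mapping `R` into `R'` -/
theorem conj_mem_Cl3 {V R R' : Subgroup G} {c : G} (hc : ∀ v ∈ V, c * v * c⁻¹ ∈ V)
    (hR : ∀ r ∈ R, c * r * c⁻¹ ∈ R') {u : G} (hu : u ∈ Cl V R) : c * u * c⁻¹ ∈ Cl V R' := by
  induction hu using closure_induction with
  | mem x hx =>
    obtain ⟨g, hg, w, hw, rfl⟩ := hx
    have h1 : c * (g * w * g⁻¹) * c⁻¹ = (c * g * c⁻¹) * (c * w * c⁻¹) * (c * g * c⁻¹)⁻¹ := by group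
    rw [h1]
    exact mem_Cl (hR g hg) (hc w hw)
  | one => simp
  | mul x y _ _ ihx ihy =>
    have h1 : c * (x * y) * c⁻¹ = (c * x * c⁻¹) * (c * y * c⁻¹) := by group
    rw [h1]
    exact mul_mem ihx ihy
  | inv x _ ih =>
    have h1 : c * x⁻¹ * c⁻¹ = (c * x * c⁻¹)⁻¹ := by group
    rw [h1]
    exact inv_mem ih

theorem conj_mem_Cl_self {V R : Subgroup G} {c : G} (hc : c ∈ R) {u : G} (hu : u ∈ Cl V R) :
    c * u * c⁻¹ ∈ Cl V R := by
  induction hu using closure_induction with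
  | mem x hx =>
    obtain ⟨g, hg, w, hw, rfl⟩ := hx
    have h1 : c * (g * w * g⁻¹) * c⁻¹ = (c * g) * w * (c * g)⁻¹ := by group
    rw [h1]
    exact mem_Cl (mul_mem hc hg) hw
  | one => simp
  | mul x y _ _ ihx ihy =>
    have h1 : c * (x * y) * c⁻¹ = (c * x * c⁻¹) * (c * y * c⁻¹) := by group
    rw [h1]
    exact mul_mem ihx ihy
  | inv x _ ih =>
    have h1 : c * x⁻¹ * c⁻¹ = (c * x * c⁻¹)⁻¹ := by group
    rw [h1]
    exact inv_mem ih

/-! ### `V_Γ`, `Y_Γ`, `U_Γ` -/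

section

variable {n : ℕ} {V : Subgroup G} {ε : (Fin n → ZMod 2) → G}

theorem Cst.add3 {Γ : Finset (Fin n)} {x y : Fin n → ZMod 2} (hx : Cst Γ x) (hy : Cst Γ y) : Cst Γ (x + y) :=
  fun i hi j hj => by rw [Pi.add_apply, Pi.add_apply, hx i hi j hj, hy i hi j hj]

theorem Cst.mono3 {Γ Δ : Finset (Fin n)} (h : Γ ⊆ Δ) {x : Fin n → ZMod 2} (hx : Cst Δ x) : Cst Γ x :=
  fun i hi j hj => hx i (h hi) j (h hj)

theorem Cst.single {Γ : Finset (Fin n)} {c : Fin n} (hc : c ∉ Γ) : Cst Γ (Pi.single c 1 : Fin n → ZMod 2) :=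
  fun i hi j hj => by
    have h1 : i ≠ c := fun h => hc (by rw [← h]; exact hi)
    have h2 : j ≠ c := fun h => hc (by rw [← h]; exact hj)
    rw [Pi.single_eq_of_ne h1, Pi.single_eq_of_ne h2]

theorem Cst.image {Γ : Finset (Fin n)} {x : Fin n → ZMod 2} (hx : Cst Γ x) (σ : Equiv.Perm (Fin n)) :
    Cst (Γ.image σ) (x ∘ σ.symm) := by
  intro i hi j hj
  obtain ⟨i', hi', rfl⟩ := Finset.mem_image.mp hi
  obtain ⟨j', hj', rfl⟩ := Finset.mem_image.mp hj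
  simpa using hx i' hi' j' hj'

theorem mem_VG_of {Γ : Finset (Fin n)} {x : Fin n → ZMod 2} (hx : Cst Γ x) : ε x ∈ VG ε Γ :=
  subset_closure ⟨x, hx, rfl⟩

theorem VG_mono {Γ Δ : Finset (Fin n)} (h : Γ ⊆ Δ) : VG ε Δ ≤ VG ε Γ := by
  rw [VG, closure_le]
  rintro v ⟨x, hx, rfl⟩
  exact mem_VG_of (hx.mono3 h)

theorem YG_mono3 {Γ Δ : Finset (Fin n)} (h : Γ ⊆ Δ) : YG ε Γ ≤ YG ε Δ :=
  centralizer_le (VG_mono h)

theorem YG_comm {Γ : Finset (Fin n)} {y : G} (hy : y ∈ YG ε Γ) {x : Fin n → ZMod 2} (hx : Cst Γ x) :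
    y * ε x * y⁻¹ = ε x := by
  have h1 := mem_centralizer_iff.mp hy _ (mem_VG_of hx)
  rw [← h1]
  group

theorem mem_YG_iff {Γ : Finset (Fin n)} {y : G} :
    y ∈ YG ε Γ ↔ ∀ x : Fin n → ZMod 2, Cst Γ x → y * ε x * y⁻¹ = ε x := by
  refine ⟨fun h x hx => YG_comm h hx, fun h => ?_⟩
  rw [YG, VG, centralizer_closure]
  rw [mem_centralizer_iff]
  rintro v ⟨x, hx, rfl⟩
  rw [eq_comm, ← mul_inv_eq_iff_eq_mul]
  exact h x hx

/-- `V` is centralised by `C(V)`: `C(V) ≤ Y_Γ` -/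
theorem le_YG {L : Subgroup G} (h : EvenSet n V L ε) (Γ : Finset (Fin n)) :
    centralizer (V : Set G) ≤ YG ε Γ := fun y hy => by
  rw [mem_YG_iff]
  intro x _
  have h1 := mem_centralizer_iff.mp hy _ (h.mem x)
  rw [← h1]
  group

theorem conj_mem_YG {Γ : Finset (Fin n)} {g y : G} {σ : Equiv.Perm (Fin n)} (hg : Acts ε g σ)
    (hy : y ∈ YG ε Γ) : g * y * g⁻¹ ∈ YG ε (Γ.image σ) := by
  rw [mem_YG_iff]
  intro x hx
  have h1 : Cst Γ (x ∘ σ) := by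
    intro i hi j hj
    exact hx (σ i) (Finset.mem_image_of_mem _ hi) (σ j) (Finset.mem_image_of_mem _ hj)
  have h2 := YG_comm hy h1
  have h3 := hg (x ∘ σ)
  have h4 : (x ∘ σ) ∘ σ.symm = x := by
    funext i
    simp
  rw [h4] at h3
  rw [← h3]
  calc g * y * g⁻¹ * (g * ε (x ∘ σ) * g⁻¹) * (g * y * g⁻¹)⁻¹ = g * (y * ε (x ∘ σ) * y⁻¹) * g⁻¹ := by group
    _ = _ := by rw [h2]

theorem Acts.conj_mem {L : Subgroup G} (h : EvenSet n V L ε) {g : G} {σ : Equiv.Perm (Fin n)}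
    (hg : Acts ε g σ) : ∀ v ∈ V, g * v * g⁻¹ ∈ V := fun v hv => by
  obtain ⟨x, rfl⟩ := h.surj v hv
  rw [hg x]
  exact h.mem _

theorem conj_mem_UG {L : Subgroup G} (h : EvenSet n V L ε) {Γ : Finset (Fin n)} {g : G}
    {σ : Equiv.Perm (Fin n)} (hg : Acts ε g σ) {u : G} (hu : u ∈ UG V ε Γ) :
    g * u * g⁻¹ ∈ UG V ε (Γ.image σ) :=
  conj_mem_Cl3 (Acts.conj_mem h hg) (fun _ hr => conj_mem_YG hg hr) hu

theorem conj_mem_UG_self {Γ : Finset (Fin n)} {c : G} (hc : c ∈ YG ε Γ) {u : G} (hu : u ∈ UG V ε Γ) :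
    c * u * c⁻¹ ∈ UG V ε Γ := conj_mem_Cl_self hc hu

end

/-! ### the frame -/

section frame

variable {n : ℕ} [NeZero n] {V W A : Subgroup G} {ε : (Fin n → ZMod 2) → G}

theorem Ln.YG_le3 (_h : Ln V ε W) {Γ : Finset (Fin n)} (hΓ : (0 : Fin n) ∉ Γ) :
    YG ε Γ ≤ centralizer ({zz ε 0} : Set G) := fun y hy => by
  rw [mem_centralizer_singleton_iff]
  have h1 := YG_comm hy (Cst.single hΓ)
  exact mul_inv_eq_iff_eq_mul.mp h1

theorem Ln.UG_le3 (h : Ln V ε W) {Γ : Finset (Fin n)} (hΓ : (0 : Fin n) ∉ Γ) : UG V ε Γ ≤ W :=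
  Cl_le3 h.VW ((h.YG_le3 hΓ).trans h.Wn)

theorem conj_mem_of_norm {K : Subgroup G} {g : G} (hg : g ∈ normalizer (K : Set G)) {k : G} (hk : k ∈ K) :
    g * k * g⁻¹ ∈ K := (mem_normalizer_iff.mp hg k).mp hk

/-- (I') for the triple `Γ` -/
theorem Ln.shift (h : Ln V ε W) (hA : A ≤ centralizer (V : Set G)) {Γ : Finset (Fin n)}
    (hΓ : (0 : Fin n) ∉ Γ) (hg : Goo V ε W A Γ) {x e : G} (hx : x ∈ YG ε Γ) (he : e ∈ A) {κ u : G}
    (hκ : κ ∈ centralizer (UG V ε Γ : Set G)) (hu : u ∈ W) :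
    (x⁻¹ * e * x) * (κ * u * κ⁻¹ * u⁻¹) * (x⁻¹ * e * x)⁻¹ =
      ((x⁻¹ * e * x) * κ * (x⁻¹ * e * x)⁻¹) * u * ((x⁻¹ * e * x) * κ * (x⁻¹ * e * x)⁻¹)⁻¹ * u⁻¹ := by
  set a := x⁻¹ * e * x with ha
  have heY : e ∈ YG ε Γ := le_YG h.ev Γ (hA he)
  have haY : a ∈ YG ε Γ := mul_mem (mul_mem (inv_mem hx) heY) hx
  have hYN : YG ε Γ ≤ normalizer (W : Set G) := (h.YG_le3 hΓ).trans h.Wn
  -- `[W, a] ≤ U`
  have hm : a * u * a⁻¹ * u⁻¹ ∈ UG V ε Γ := by
    have h1 := hg e he (x * u * x⁻¹) (conj_mem_of_norm (hYN hx) hu)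
    have h2 := conj_mem_UG_self (inv_mem hx) h1
    have h3 : x⁻¹ * (e * (x * u * x⁻¹) * e⁻¹ * (x * u * x⁻¹)⁻¹) * x⁻¹⁻¹ = a * u * a⁻¹ * u⁻¹ := by
      rw [ha]; group
    rwa [h3] at h2
  obtain ⟨m, hmdef⟩ : ∃ m, m = a * u * a⁻¹ * u⁻¹ := ⟨_, rfl⟩
  rw [← hmdef] at hm
  have hau : a * u * a⁻¹ = m * u := by rw [hmdef]; group
  obtain ⟨k, hk⟩ : ∃ k, k = a * κ * a⁻¹ := ⟨_, rfl⟩
  -- `k` centralises `U`
  have hkU : ∀ v ∈ UG V ε Γ, k * v = v * k := by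
    intro v hv
    have h1 := conj_mem_UG_self (V := V) (inv_mem haY) hv
    have h2 := mem_centralizer_iff.mp hκ _ h1
    rw [hk]
    calc a * κ * a⁻¹ * v = a * (κ * (a⁻¹ * v * a⁻¹⁻¹)) * a⁻¹ := by group
      _ = a * ((a⁻¹ * v * a⁻¹⁻¹) * κ) * a⁻¹ := by rw [h2]
      _ = v * (a * κ * a⁻¹) := by group
  have hVU : V ≤ UG V ε Γ := le_Cl3 _ _
  have hkN : k ∈ normalizer (W : Set G) := by
    refine h.Wn ?_
    rw [mem_centralizer_singleton_iff]
    exact hkU _ (hVU (h.ev.mem _))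
  have hc : k * u * k⁻¹ * u⁻¹ ∈ W := mul_mem (conj_mem_of_norm hkN hu) (inv_mem hu)
  have hmW : m ∈ W := h.UG_le3 hΓ hm
  have hmk := hkU m hm
  calc a * (κ * u * κ⁻¹ * u⁻¹) * a⁻¹
      = (a * κ * a⁻¹) * (a * u * a⁻¹) * (a * κ * a⁻¹)⁻¹ * (a * u * a⁻¹)⁻¹ := by group
    _ = k * (m * u) * k⁻¹ * (m * u)⁻¹ := by rw [hau, hk]
    _ = (k * m) * u * k⁻¹ * u⁻¹ * m⁻¹ := by group
    _ = m * (k * u * k⁻¹ * u⁻¹) * m⁻¹ := by rw [hmk]; group
    _ = (k * u * k⁻¹ * u⁻¹) * m * m⁻¹ := by rw [h.Wc m hmW _ hc]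
    _ = k * u * k⁻¹ * u⁻¹ := by group
    _ = _ := by rw [hk]

omit [NeZero n] in
/-- `σ` fixing all letters outside `{a, b}` -/
theorem perm_eq_of_fix {σ : Equiv.Perm (Fin n)} {a b : Fin n} (hab : a ≠ b)
    (h : ∀ c, c ≠ a → c ≠ b → σ c = c) : σ = 1 ∨ σ = Equiv.swap a b := by
  by_cases ha : σ a = a
  · left
    ext c
    by_cases hca : c = a
    · rw [hca, ha]; rfl
    · by_cases hcb : c = b
      · subst hcb
        -- `σ c ∉ {others}`
        have h1 : σ c = c := by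
          by_contra hne
          have h2 : σ c ≠ a := fun h3 => hca (σ.injective (h3.trans ha.symm))
          exact hne (σ.injective (h (σ c) h2 hne))
        rw [h1]; rfl
      · rw [h c hca hcb]; rfl
  · right
    have h1 : σ a = b := by
      by_contra hne
      exact ha (σ.injective (h (σ a) ha hne))
    have h2 : σ b = a := by
      by_contra hne
      have h3 : σ b ≠ b := fun h4 => hab (σ.injective (h1.trans h4.symm))
      exact h3 (σ.injective (h (σ b) hne h3))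
    ext c
    by_cases hca : c = a
    · rw [hca, h1, Equiv.swap_apply_left]
    · by_cases hcb : c = b
      · rw [hcb, h2, Equiv.swap_apply_right]
      · rw [h c hca hcb, Equiv.swap_apply_of_ne_of_ne hca hcb]

/-- an element of `X_ab` normalising `V` -/
theorem Ln.one_or_swap (h : Ln V ε W) {a b : Fin n} (hab : a ≠ b) {y : G} (hy : y ∈ YG ε {a, b})
    (hn : y ∈ normalizer (V : Set G)) : y ∈ centralizer (V : Set G) ∨ Acts ε y (Equiv.swap a b) := by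
  have hn3 : 3 ≤ n := le_trans (by norm_num) h.n5
  obtain ⟨σ, hσ⟩ := h.ev.perm y hn
  have h1 : ∀ c, c ≠ a → c ≠ b → σ c = c := by
    intro c hca hcb
    refine h.ev.single_inj hn3 ?_
    rw [← hσ.single]
    refine YG_comm hy (Cst.single ?_)
    simp [hca, hcb]
  rcases perm_eq_of_fix hab h1 with h2 | h2
  · left
    rw [h2] at hσ
    exact h.ev.acts_one_iff.mp hσ
  · right
    rwa [h2] at hσ

/-- **(I')**: for all distinct `i, m, k ≠ 0` there is an element `b` acting as `(i m)` with `[u, κ]^b = [u, κ^b]` for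
all `u ∈ W`, `κ ∈ C(U_imk)`. -/
theorem Ln.shift' (h : Ln V ε W) (hA : A ≤ centralizer (V : Set G)) {a b c : Fin n} (ha : a ≠ 0) (hb : b ≠ 0)
    (hc : c ≠ 0) (hab : a ≠ b) (hca : c ≠ a) (hcb : c ≠ b) (hg : Goo V ε W A {a, b, c})
    {x e : G} (hx : x ∈ YG ε {a, b}) (he : e ∈ A) (hs : Acts ε (x⁻¹ * e * x) (Equiv.swap a b))
    {i m k : Fin n} (hi : i ≠ 0) (hm : m ≠ 0) (hk : k ≠ 0) (him : i ≠ m) (hki : k ≠ i) (hkm : k ≠ m) :
    ∃ d : G, Acts ε d (Equiv.swap i m) ∧ ∀ κ ∈ centralizer (UG V ε {i, m, k} : Set G), ∀ u ∈ W,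
      d * (κ * u * κ⁻¹ * u⁻¹) * d⁻¹ = (d * κ * d⁻¹) * u * (d * κ * d⁻¹)⁻¹ * u⁻¹ := by
  -- a permutation `σ` with `σ 0 = 0`, `σ a = i`, `σ b = m`, `σ c = k`
  obtain ⟨σ, h0, h1, h2, h3⟩ : ∃ σ : Equiv.Perm (Fin n), σ 0 = 0 ∧ σ a = i ∧ σ b = m ∧ σ c = k := by
    -- `f : Fin 4 ↪ Fin n`
    have hf : Function.Injective (![0, a, b, c] : Fin 4 → Fin n) := by
      intro p q hpq
      fin_cases p <;> fin_cases q <;> simp_all [eq_comm]
    have hf' : Function.Injective (![0, i, m, k] : Fin 4 → Fin n) := by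
      intro p q hpq
      fin_cases p <;> fin_cases q <;> simp_all [eq_comm]
    obtain ⟨σ, hσ⟩ := Equiv.Perm.exists_extending_pair _ _ hf hf'
    exact ⟨σ, hσ 0, hσ 1, hσ 2, hσ 3⟩
  obtain ⟨g, hgN, hgσ⟩ := h.ev.full σ
  have hgz : g ∈ centralizer ({zz ε 0} : Set G) := by
    rw [mem_centralizer_singleton_iff]
    have h4 := hgσ.single 0
    rw [h0] at h4
    exact mul_inv_eq_iff_eq_mul.mp h4
  have hgW := h.Wn hgz
  have hΓ : (0 : Fin n) ∉ ({a, b, c} : Finset (Fin n)) := by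
    simp [ha.symm, hb.symm, hc.symm]
  have him' : ({a, b, c} : Finset (Fin n)).image σ = {i, m, k} := by
    simp [Finset.image_insert, h1, h2, h3]
  have hxΓ : x ∈ YG ε {a, b, c} := YG_mono3 (by intro y; simp; tauto) hx
  refine ⟨g * (x⁻¹ * e * x) * g⁻¹, ?_, ?_⟩
  · have h4 := hgσ.conj hs
    have h5 : σ * Equiv.swap a b * σ⁻¹ = Equiv.swap i m := by
      rw [← h1, ← h2, Equiv.swap_apply_apply]
    rwa [h5] at h4
  · intro κ hκ u hu
    set d := x⁻¹ * e * x with hd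
    have h6 : g⁻¹ * κ * g ∈ centralizer (UG V ε {a, b, c} : Set G) := by
      rw [mem_centralizer_iff]
      intro v hv
      have h7 := conj_mem_UG h.ev hgσ hv
      rw [him'] at h7
      have h8 := mem_centralizer_iff.mp hκ _ h7
      calc v * (g⁻¹ * κ * g) = g⁻¹ * ((g * v * g⁻¹) * κ) * g := by group
        _ = g⁻¹ * (κ * (g * v * g⁻¹)) * g := by rw [h8]
        _ = g⁻¹ * κ * g * v := by group
    have h9 : g⁻¹ * u * g ∈ W := by
      have := conj_mem_of_norm (inv_mem hgW) hu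
      rwa [inv_inv] at this
    have h10 := h.shift hA hΓ hg hxΓ he h6 h9
    rw [← hd] at h10
    calc g * d * g⁻¹ * (κ * u * κ⁻¹ * u⁻¹) * (g * d * g⁻¹)⁻¹
        = g * (d * ((g⁻¹ * κ * g) * (g⁻¹ * u * g) * (g⁻¹ * κ * g)⁻¹ * (g⁻¹ * u * g)⁻¹) * d⁻¹) * g⁻¹ := by
          group
      _ = g * (d * (g⁻¹ * κ * g) * d⁻¹ * (g⁻¹ * u * g) * (d * (g⁻¹ * κ * g) * d⁻¹)⁻¹ * (g⁻¹ * u * g)⁻¹) *
            g⁻¹ := by rw [h10]
      _ = _ := by group

omit [NeZero n] in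
theorem swap_single {a b : Fin n} (x : Fin n → ZMod 2) (hx : x = Pi.single a 1) :
    x ∘ (Equiv.swap a b).symm = Pi.single b 1 := by
  subst hx
  funext j
  by_cases hj : j = b
  · subst hj
    simp
  · have h1 : (Equiv.swap a b).symm j ≠ a := by
      intro h2
      rw [Equiv.symm_swap, Equiv.swap_apply_eq_iff, Equiv.swap_apply_left] at h2
      exact hj h2
    simp only [Function.comp]
    rw [Pi.single_eq_of_ne h1, Pi.single_eq_of_ne hj]

/-- **(3')** -/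
theorem Ln.three (h : Ln V ε W) (hA : A ≤ centralizer (V : Set G)) {a b c j k : Fin n} (ha : a ≠ 0) (hb : b ≠ 0)
    (hc : c ≠ 0) (hj : j ≠ 0) (hk : k ≠ 0) (hab : a ≠ b) (hca : c ≠ a) (hcb : c ≠ b) (hja : j ≠ a) (hjb : j ≠ b)
    (hka : k ≠ a) (hkb : k ≠ b) (hjk : j ≠ k) (hg : Goo V ε W A {a, b, c}) {x e₀ : G} (hx : x ∈ YG ε {a, b})
    (he : e₀ ∈ A) (he1 : e₀ ∈ centralizer (UG V ε {a, j, k} : Set G))
    (hn : x⁻¹ * e₀ * x ∈ normalizer (V : Set G)) : x⁻¹ * e₀ * x ∈ centralizer (V : Set G) := by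
  have hn3 : 3 ≤ n := le_trans (by norm_num) h.n5
  have heY : e₀ ∈ YG ε {a, b} := le_YG h.ev _ (hA he)
  have hdY : x⁻¹ * e₀ * x ∈ YG ε {a, b} := mul_mem (mul_mem (inv_mem hx) heY) hx
  rcases h.one_or_swap hab hdY hn with h0 | hs
  · exact h0
  exfalso
  have hxz : x ∈ centralizer ({zz ε 0} : Set G) := h.YG_le3 (by simp [ha.symm, hb.symm]) hx
  -- labels
  obtain ⟨za, hza⟩ : ∃ z, z = zz ε a := ⟨_, rfl⟩
  obtain ⟨w, hw⟩ : ∃ w, w = x * zz ε a * x⁻¹ := ⟨_, rfl⟩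
  have hwW : w ∈ W := by
    rw [hw]
    exact conj_mem_of_norm (h.Wn hxz) (h.VW (h.ev.mem _))
  have hcst : ∀ p q : Fin n, p ≠ q → zz ε p * zz ε q = ε (Pi.single p 1 + Pi.single q 1) := fun p q _ =>
    (h.ev.add _ _).symm
  -- `[e₀, w] = z_b z_a`
  have h1 : e₀ * w * e₀⁻¹ * w⁻¹ = ε (Pi.single b 1 + Pi.single a 1) := by
    have h2 : (x⁻¹ * e₀ * x) * zz ε a * (x⁻¹ * e₀ * x)⁻¹ = zz ε b := by
      have := hs.single a
      rwa [Equiv.swap_apply_left] at this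
    have h3 : e₀ * w * e₀⁻¹ * w⁻¹ = x * (((x⁻¹ * e₀ * x) * zz ε a * (x⁻¹ * e₀ * x)⁻¹) * (zz ε a)⁻¹) * x⁻¹ := by
      rw [hw]; group
    rw [h3, h2]
    have h4 : zz ε b * (zz ε a)⁻¹ = ε (Pi.single b 1 + Pi.single a 1) := by
      rw [zz, zz, h.ev.inv, h.ev.add]
    rw [h4]
    refine YG_comm hx ?_
    intro p hp q hq
    simp only [Finset.mem_insert, Finset.mem_singleton] at hp hq
    rcases hp with rfl | rfl <;> rcases hq with rfl | rfl <;>
      simp [Pi.single_apply, hab, hab.symm]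
  -- `[q_j, w] = z_b z_j`
  have key : ∀ j k : Fin n, j ≠ 0 → k ≠ 0 → j ≠ a → j ≠ b → k ≠ a → k ≠ j →
      e₀ ∈ centralizer (UG V ε {a, j, k} : Set G) →
      ∃ q ∈ centralizer (V : Set G), q * w * q⁻¹ * w⁻¹ = ε (Pi.single b 1 + Pi.single j 1) := by
    intro j k hj hk hja hjb hka hkj he1
    obtain ⟨d, hd, hd1⟩ := h.shift' hA ha hb hc hab hca hcb hg hx he hs ha hj hk hja.symm hka hkj
    refine ⟨d * e₀ * d⁻¹, ?_, ?_⟩
    · have h2 := Acts.conj_mem h.ev hd.inv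
      rw [mem_centralizer_iff]
      intro v hv
      have h3 := h2 v hv
      have h4 := mem_centralizer_iff.mp (hA he) _ h3
      calc v * (d * e₀ * d⁻¹) = d * ((d⁻¹ * v * d⁻¹⁻¹) * e₀) * d⁻¹ := by group
        _ = d * (e₀ * (d⁻¹ * v * d⁻¹⁻¹)) * d⁻¹ := by rw [h4]
        _ = _ := by group
    · rw [← hd1 e₀ he1 w hwW, h1, hd]
      congr 1
      have h5 : (Pi.single b 1 + Pi.single a 1 : Fin n → ZMod 2) ∘ (Equiv.swap a j).symm =
          (Pi.single b 1 : Fin n → ZMod 2) ∘ (Equiv.swap a j).symm +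
          (Pi.single a 1 : Fin n → ZMod 2) ∘ (Equiv.swap a j).symm := rfl
      rw [h5, swap_single _ rfl]
      congr 1
      funext t
      simp only [Function.comp, Equiv.symm_swap]
      by_cases ht : t = b
      · subst ht
        rw [Equiv.swap_apply_of_ne_of_ne hab.symm hjb.symm]
      · have h6 : Equiv.swap a j t ≠ b := by
          intro h7
          rw [Equiv.swap_apply_eq_iff, Equiv.swap_apply_of_ne_of_ne hab.symm hjb.symm] at h7
          exact ht h7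
        rw [Pi.single_eq_of_ne h6, Pi.single_eq_of_ne ht]
  obtain ⟨qj, hqj, hqj1⟩ := key j k hj hk hja hjb hka hjk.symm he1
  have hset : ({a, k, j} : Finset (Fin n)) = {a, j, k} := by
    rw [Finset.pair_comm]
  obtain ⟨qk, hqk, hqk1⟩ := key k j hk hj hka hkb hja hjk (by rw [hset]; exact he1)
  -- `q = q_j q_k`
  have hq : (qj * qk) ∈ centralizer (V : Set G) := mul_mem hqj hqk
  have hq1 : (qj * qk) * w * (qj * qk)⁻¹ * w⁻¹ = ε (Pi.single k 1 + Pi.single j 1) := by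
    have h5 : qk * w * qk⁻¹ = ε (Pi.single b 1 + Pi.single k 1) * w := by rw [← hqk1]; group
    have h6 : qj * w * qj⁻¹ = ε (Pi.single b 1 + Pi.single j 1) * w := by rw [← hqj1]; group
    have h7 := mem_centralizer_iff.mp hqj _ (h.ev.mem (Pi.single b 1 + Pi.single k 1))
    calc (qj * qk) * w * (qj * qk)⁻¹ * w⁻¹ = qj * (qk * w * qk⁻¹) * qj⁻¹ * w⁻¹ := by group
      _ = qj * (ε (Pi.single b 1 + Pi.single k 1) * w) * qj⁻¹ * w⁻¹ := by rw [h5]
      _ = (qj * ε (Pi.single b 1 + Pi.single k 1)) * w * qj⁻¹ * w⁻¹ := by group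
      _ = ε (Pi.single b 1 + Pi.single k 1) * (qj * w * qj⁻¹) * w⁻¹ := by rw [← h7]; group
      _ = ε (Pi.single b 1 + Pi.single k 1) * ε (Pi.single b 1 + Pi.single j 1) := by rw [h6]; group
      _ = ε (Pi.single b 1 + Pi.single k 1 + (Pi.single b 1 + Pi.single j 1)) := (h.ev.add _ _).symm
      _ = _ := by
        congr 1
        have h8 : (Pi.single b 1 + Pi.single k 1 + (Pi.single b 1 + Pi.single j 1) : Fin n → ZMod 2) =
            (Pi.single b 1 + Pi.single b 1) + (Pi.single k 1 + Pi.single j 1) := by abel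
        rw [h8, add_self, zero_add]
  -- `p = x⁻¹ q x` maps `z_a` to `z_k z_j z_a`
  have hp : (x⁻¹ * (qj * qk) * x) * zz ε a * (x⁻¹ * (qj * qk) * x)⁻¹ =
      ε (Pi.single k 1 + Pi.single j 1 + Pi.single a 1) := by
    have h5 : (x⁻¹ * (qj * qk) * x) * zz ε a * (x⁻¹ * (qj * qk) * x)⁻¹ =
        x⁻¹ * (((qj * qk) * w * (qj * qk)⁻¹ * w⁻¹) * w) * x⁻¹⁻¹ := by rw [hw]; group
    rw [h5, hq1]
    have h6 : x⁻¹ * ε (Pi.single k 1 + Pi.single j 1) * x⁻¹⁻¹ = ε (Pi.single k 1 + Pi.single j 1) := by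
      refine YG_comm (inv_mem hx) ?_
      intro p hp q hq
      simp only [Finset.mem_insert, Finset.mem_singleton] at hp hq
      rcases hp with rfl | rfl <;> rcases hq with rfl | rfl <;>
        simp [Pi.single_apply, hja.symm, hjb.symm, hka.symm, hkb.symm]
    calc x⁻¹ * (ε (Pi.single k 1 + Pi.single j 1) * w) * x⁻¹⁻¹
        = (x⁻¹ * ε (Pi.single k 1 + Pi.single j 1) * x⁻¹⁻¹) * (x⁻¹ * w * x⁻¹⁻¹) := by group
      _ = ε (Pi.single k 1 + Pi.single j 1) * zz ε a := by rw [h6, hw]; group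
      _ = _ := by rw [zz, ← h.ev.add]
  obtain ⟨s, hs1⟩ := h.fus a (x⁻¹ * (qj * qk) * x) (by rw [hp]; exact h.ev.mem _)
  rw [hp, zz] at hs1
  rcases h.ev.eq_iff.mp hs1 with h5 | h5
  · have h6 := congrFun h5 k
    have h7 := congrFun h5 j
    simp only [Pi.add_apply, Pi.single_apply] at h6 h7
    simp [hjk, hjk.symm, hka, hja] at h6 h7
    exact hjk (h7.trans h6.symm)
  · have h6 := congrFun h5 0
    have h7 := congrFun h5 b
    simp only [Pi.add_apply, Pi.single_apply] at h6 h7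
    simp [hj.symm, hk.symm, ha.symm, hjb.symm, hkb.symm, hab.symm] at h6 h7
    have h8 : (0 : Fin n) = s := by
      by_contra hne
      rw [if_neg hne, zero_add] at h6
      exact zero_ne_one h6
    have h9 : b = s := by
      by_contra hne
      rw [if_neg hne, zero_add] at h7
      exact zero_ne_one h7
    exact hb (h9.trans h8.symm)

end frame

end Cfsg.Agent.Omega.NO3S.SN.R1
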