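import Cfsg.Agent.Omega.NO3S.SN.R1.Two
import Cfsg.Agent.Omega.NO3S.SN.R1.Three
import Cfsg.Agent.Omega.NO3S.SN.R1.Four

/-!
# THEOREM R1 for `r = 1` (helper430 #22327, helper62 #22855), `|A : C_A(W)| ≠ 2`

* `Ln.fixU` : `O₂(C_G(z_p))` centralises `U_Γ` for `p ∉ Γ`;
* `Ln.st` : `A ≤ O₂(C_G(z_p))` a minimal best offender on `W` which moves `W_pb`: the elements of `A` which normalise
  a line `V^x`, `x ∈ X_pb`, centralise it;
* `Ln.main` : such an `A ≤ T` centralises `W_R` for all minimal parabolics `R` of `X_pb` over `T` outside `N(V)`.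
-/

set_option autoImplicit false

namespace Cfsg.Agent.Omega.NO3S.SN.R1

open Subgroup Cfsg Cfsg.Agent.ZN Cfsg.Agent.Omega.S5.Def Cfsg.Agent.Omega.FFBr
open Cfsg.Agent.MinSimple.VModule

universe u

variable {G : Type u} [Group G] [Finite G] {n : ℕ} [NeZero n] {V W A T R : Subgroup G} {ε : (Fin n → ZMod 2) → G}

omit [Finite G] in
/-- `O₂(C_G(z_p))` centralises `U_Γ` for `p ∉ Γ` -/
theorem Ln.fixU (h : Ln V ε W) {p : Fin n} {Γ : Finset (Fin n)} (hp : p ∉ Γ)
    (hV : o2 (centralizer ({zz ε p} : Set G)) ≤ centralizer (V : Set G)) :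
    o2 (centralizer ({zz ε p} : Set G)) ≤ centralizer (UG V ε Γ : Set G) := by
  have hY : YG ε Γ ≤ centralizer ({zz ε p} : Set G) := by
    refine centralizer_le ?_
    rw [Set.singleton_subset_iff]
    exact (mem_VG_iff h.ev).2 (cst_single hp)
  intro q hq
  have h1 : UG V ε Γ ≤ centralizer ({q} : Set G) := by
    refine Cl_le_of fun y hy v hv => ?_
    have h2 : y⁻¹ * q * y ∈ o2 (centralizer ({zz ε p} : Set G)) := by
      have h3 := (mem_normalizer_iff.1 (inv_mem (le_normalizer_o2 _ (hY hy))) q).1 hq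
      rwa [inv_inv] at h3
    have h4 := mem_centralizer_iff.1 (hV h2) v hv
    rw [mem_centralizer_singleton_iff]
    calc y * v * y⁻¹ * q = y * (v * (y⁻¹ * q * y)) * y⁻¹ := by group
      _ = y * ((y⁻¹ * q * y) * v) * y⁻¹ := by rw [h4]
      _ = q * (y * v * y⁻¹) := by group
  rw [mem_centralizer_iff]
  exact fun v hv => mem_centralizer_singleton_iff.1 (h1 hv)

omit [Finite G] in
/-- `O₂(C_G(z_p)) ≤ O₂(C_G(V))` -/
theorem Ln.o2_le (h : Ln V ε W) {p : Fin n}
    (hV : o2 (centralizer ({zz ε p} : Set G)) ≤ centralizer (V : Set G)) :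
    o2 (centralizer ({zz ε p} : Set G)) ≤ o2 (centralizer (V : Set G)) := by
  refine _root_.Cfsg.Agent.MinSimple.VModule.le_o2 hV (o2_isPGroup _) ?_
  refine (centralizer_le ?_).trans (le_normalizer_o2 _)
  rw [Set.singleton_subset_iff]
  exact h.ev.mem _

/-- three more letters -/
theorem exists_two (hn : 5 ≤ n) (p b : Fin n) : ∃ j k : Fin n, j ≠ 0 ∧ j ≠ p ∧ j ≠ b ∧ k ≠ 0 ∧ k ≠ p ∧ k ≠ b ∧ j ≠ k := by
  have hc : ∀ s : Finset (Fin n), s.card ≤ 4 → ∃ j, j ∉ s := by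
    intro s hs
    have h1 : s.card < (Finset.univ : Finset (Fin n)).card := by
      rw [Finset.card_univ, Fintype.card_fin]
      omega
    obtain ⟨j, -, hj⟩ := Finset.exists_mem_notMem_of_card_lt_card h1
    exact ⟨j, hj⟩
  obtain ⟨j, hj⟩ := hc {0, p, b} (Finset.card_le_three.trans (by norm_num))
  obtain ⟨k, hk⟩ := hc {0, p, b, j} Finset.card_le_four
  simp only [Finset.mem_insert, Finset.mem_singleton, not_or] at hj hk
  exact ⟨j, k, hj.1, hj.2.1, hj.2.2, hk.1, hk.2.1, hk.2.2.1, Ne.symm hk.2.2.2⟩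

/-- **(3) for `r = 1`** -/
theorem Ln.st (h : Ln V ε W) (hML : ML.Final.MLK.{u, u}) {p b : Fin n} (hp0 : p ≠ 0) (hb0 : b ≠ 0) (hpb : p ≠ b)
    (hV : o2 (centralizer ({zz ε p} : Set G)) ≤ centralizer (V : Set G))
    (hA : A ≤ o2 (centralizer ({zz ε p} : Set G))) (hB : Best W A)
    (hm : ¬ A ≤ centralizer (UG V ε {p, b} : Set G)) {x a : G} (hx : x ∈ YG ε {p, b}) (ha : a ∈ A)
    (hn : x⁻¹ * a * x ∈ normalizer (V : Set G)) : x⁻¹ * a * x ∈ centralizer (V : Set G) := by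
  obtain ⟨j, k, hj0, hjp, hjb, hk0, hkp, hkb, hjk⟩ := exists_two h.n5 p b
  have hbp : ({b, p} : Finset (Fin n)) = {p, b} := Finset.pair_comm _ _
  have h1 := h.two hML (hA.trans (h.o2_le hV)) hB hb0 hj0 hp0 (Ne.symm hjb) (Ne.symm hpb) hjp
    (hA.trans (h.fixU (Γ := {b, j}) (by simp [hpb, Ne.symm hjp]) hV)) (by rw [hbp]; exact hm)
  have h2 : ({b, p, j} : Finset (Fin n)) = {b, j, p} := by
    ext t
    simp only [Finset.mem_insert, Finset.mem_singleton]
    tauto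
  refine h.three (hA.trans hV) hb0 hp0 hj0 hj0 hk0 (Ne.symm hpb) hjb hjp hjb hjp hkb hkp hjk (by rw [h2]; exact h1.1)
    (by rw [hbp]; exact hx) ha ?_ hn
  exact h.fixU (by simp [hpb, Ne.symm hjp, Ne.symm hkp]) hV (hA ha)

omit [Finite G] [NeZero n] in
/-- `|V : V_pb| = 2` -/
theorem relIndex_pair {L : Subgroup G} (ev : EvenSet n V L ε) {p b : Fin n} (hpb : p ≠ b) :
    (VG ε {p, b}).relIndex V = 2 := by
  have key : ∀ x : Fin n → ZMod 2, ε x ∈ VG ε {p, b} ↔ x p = x b := by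
    intro x
    rw [mem_VG_iff ev]
    constructor
    · exact fun h1 => h1 p (by simp) b (by simp)
    · intro h1 i hi j hj
      simp only [Finset.mem_insert, Finset.mem_singleton] at hi hj
      rcases hi with rfl | rfl <;> rcases hj with rfl | rfl
      · rfl
      · exact h1
      · exact h1.symm
      · rfl
  refine Half.two_of (s := ε (Pi.single p 1)) (ev.mem _) ?_ ?_
  · rw [key]
    simp [Ne.symm hpb]
  · intro a ha haD
    obtain ⟨x, rfl⟩ := ev.surj a ha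
    rw [key] at haD
    rw [← ev.add, key]
    simp only [Pi.add_apply, Pi.single_eq_same, Pi.single_eq_of_ne (Ne.symm hpb), add_zero]
    have h2 : ∀ c d : ZMod 2, c ≠ d → c + 1 = d := by decide
    exact h2 _ _ haD

/-- **THEOREM R1, `r = 1`**: `A` centralises `W_R` for all minimal parabolics `R` of `X_pb` -/
theorem Ln.main (h : Ln V ε W) (hML : ML.Final.MLK.{u, u}) (hF : AStmt.{u}) {p b : Fin n} (hp0 : p ≠ 0) (hb0 : b ≠ 0)
    (hpb : p ≠ b) (hV : o2 (centralizer ({zz ε p} : Set G)) ≤ centralizer (V : Set G))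
    (hA : A ≤ o2 (centralizer ({zz ε p} : Set G))) (hB : Best W A)
    (h4 : (centralizer (W : Set G)).relIndex A ≠ 2) (rr : RR V (VG ε {p, b}) T R) (hAT : A ≤ T) :
    A ≤ centralizer (Cl V R : Set G) := by
  have hRY : R ≤ YG ε {p, b} := rr.RD
  by_cases hm : A ≤ centralizer (UG V ε {p, b} : Set G)
  · exact hm.trans (centralizer_le (Cl_mono hRY))
  refine four hF rr (VG_le h.ev _) (relIndex_pair h.ev hpb) h.VW
    (hRY.trans ((h.YG_le (by simp [Ne.symm hp0, Ne.symm hb0])).trans h.Wn)) h.Wc h.Ws hB h4 hAT ?_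
  exact fun x hx a ha hn => h.st hML hp0 hb0 hpb hV hA hB hm (hRY hx) ha hn

end Cfsg.Agent.Omega.NO3S.SN.R1
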