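import Cfsg.Agent.Omega.NO3S.SN.R1.Bas

/-!
# THEOREM R1 (helper430 #22327), step (2)

`A` a minimal best offender on `W` inside `O₂(C_G(V))`; if `A` centralises `U_ij` and moves `U_ik`, then
`[W, A] ≤ U_ijk`, `W = U_ijk C_W(A)` and `C_A(U_ijk) = C_A(W)`.

(ML) is applied to `Y = C_G(V_Γ)` on `U_Γ / V_Γ`, `Γ = {i,j,k}`, with the vector `z_k V_Γ`, whose stabiliser in `Y` is
`C_G(V_ij)`.
-/

set_option autoImplicit false
set_option linter.unusedSectionVars false

namespace Cfsg.Agent.Omega.NO3S.SN.R1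

open Subgroup Cfsg Cfsg.Agent.ZN Cfsg.Agent.Omega.S5.Def
open Cfsg.Agent.Omega.FFThm (ElemM)
open Cfsg.Agent.MinSimple.VModule

universe u

variable {G : Type u} [Group G]

section labels

variable {n : ℕ} {V : Subgroup G} {L : Subgroup G} {ε : (Fin n → ZMod 2) → G}

theorem zmod2 (c : ZMod 2) : c = 0 ∨ c = 1 := by
  revert c
  decide

/-- `V_ij = V_ijk ⟨z_k⟩` -/
theorem mem_YG_pair (ev : EvenSet n V L ε) {i j k : Fin n} (hij : i ≠ j) (hik : i ≠ k) (hjk : j ≠ k) {g : G}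
    (hg : g ∈ YG ε {i, j, k}) (hz : g * zz ε k * g⁻¹ = zz ε k) : g ∈ YG ε {i, j} := by
  rw [mem_YG ev]
  intro x hx
  have hxij : x i = x j := hx i (by simp) j (by simp)
  rcases eq_or_ne (x k) (x i) with h1 | h1
  · refine (mem_YG ev).1 hg x ?_
    intro a ha b hb
    simp only [Finset.mem_insert, Finset.mem_singleton] at ha hb
    have hv : ∀ c, (c = i ∨ c = j ∨ c = k) → x c = x i := by
      rintro c (rfl | rfl | rfl)
      · rfl
      · exact hxij.symm
      · exact h1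
    rw [hv a ha, hv b hb]
  · have h2 : Cst {i, j, k} (x + Pi.single k 1) := by
      intro a ha b hb
      simp only [Finset.mem_insert, Finset.mem_singleton] at ha hb
      have hv : ∀ c, (c = i ∨ c = j ∨ c = k) → (x + Pi.single k 1 : Fin n → ZMod 2) c = x i := by
        rintro c (rfl | rfl | rfl)
        · rw [Pi.add_apply, Pi.single_eq_of_ne hik, add_zero]
        · rw [Pi.add_apply, Pi.single_eq_of_ne hjk, add_zero]
          exact hxij.symm
        · rw [Pi.add_apply, Pi.single_eq_same]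
          rcases zmod2 (x c) with h3 | h3 <;> rcases zmod2 (x i) with h4 | h4
          · exact absurd (h3.trans h4.symm) h1
          · rw [h3, h4]; rfl
          · rw [h3, h4]; rfl
          · exact absurd (h3.trans h4.symm) h1
      rw [hv a ha, hv b hb]
    have h3 := (mem_YG ev).1 hg _ h2
    rw [ev.add] at h3
    have h4 : g * (ε x * zz ε k) * g⁻¹ = g * ε x * g⁻¹ * (g * zz ε k * g⁻¹) := by group
    change g * (ε x * zz ε k) * g⁻¹ = ε x * zz ε k at h3
    rw [h4, hz] at h3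
    exact mul_right_cancel h3

/-- `V = ⟨V_ijk, z_i, z_k⟩` -/
theorem V_le_of (ev : EvenSet n V L ε) {i j k : Fin n} (hij : i ≠ j) (hik : i ≠ k) (hjk : j ≠ k) {S : Subgroup G}
    (hi : zz ε i ∈ S) (hk : zz ε k ∈ S) (hS : VG ε {i, j, k} ≤ S) : V ≤ S := by
  intro v hv
  obtain ⟨x, rfl⟩ := ev.surj v hv
  have hsm : ∀ (c : ZMod 2) (m : Fin n), zz ε m ∈ S → ε (c • Pi.single m 1) ∈ S := by
    intro c m hm
    rcases zmod2 c with rfl | rfl
    · rw [zero_smul, ev.zero]
      exact one_mem _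
    · rw [one_smul]
      exact hm
  have h1 : Cst {i, j, k} (x + (x i + x j) • Pi.single i 1 + (x k + x j) • Pi.single k 1) := by
    have hv : ∀ c, (c = i ∨ c = j ∨ c = k) →
        (x + (x i + x j) • Pi.single i 1 + (x k + x j) • Pi.single k 1 : Fin n → ZMod 2) c = x j := by
      rintro c (rfl | rfl | rfl)
      · simp only [Pi.add_apply, Pi.smul_apply, Pi.single_eq_same, Pi.single_eq_of_ne hik, smul_eq_mul, mul_zero,
          mul_one, add_zero]
        rw [← add_assoc, CharTwo.add_self_eq_zero, zero_add]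
      · simp only [Pi.add_apply, Pi.smul_apply, Pi.single_eq_of_ne hij.symm, Pi.single_eq_of_ne hjk, smul_eq_mul,
          mul_zero, add_zero]
      · simp only [Pi.add_apply, Pi.smul_apply, Pi.single_eq_same, Pi.single_eq_of_ne hik.symm, smul_eq_mul, mul_zero,
          mul_one, add_zero]
        rw [← add_assoc, CharTwo.add_self_eq_zero, zero_add]
    intro a ha b hb
    simp only [Finset.mem_insert, Finset.mem_singleton] at ha hb
    rw [hv a ha, hv b hb]
  have h2 := hS ((mem_VG_iff ev).2 h1)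
  rw [ev.add, ev.add] at h2
  have h3 := (mul_mem_cancel_right (hsm _ k hk)).1 h2
  exact (mul_mem_cancel_right (hsm _ i hi)).1 h3

end labels

section sylow

variable [Finite G] {n : ℕ} {V W : Subgroup G} {ε : (Fin n → ZMod 2) → G}

omit [Finite G] in
/-- a 2-subgroup of `C_G(V_Γ)` which normalises `V` fixes a letter of `Γ` (`|Γ|` odd) -/
theorem exists_fix (ev : EvenSet n V (normalizer (V : Set G)) ε) (hn : 3 ≤ n) {Γ : Finset (Fin n)}
    (hΓ : Odd Γ.card) {T : Subgroup G} (hT : IsPGroup 2 T) (h1 : T ≤ YG ε Γ) (h2 : T ≤ normalizer (V : Set G)) :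
    ∃ c ∈ Γ, ∀ t ∈ T, t * zz ε c * t⁻¹ = zz ε c := by
  by_contra hcon
  push Not at hcon
  let f : T →* Equiv.Perm (Fin n) := (ev.hom hn).comp (inclusion h2)
  have hf : ∀ t : T, Acts ε (t : G) (f t) := fun t => ev.acts_hom hn (inclusion h2 t)
  let _ : MulAction T (Fin n) := MulAction.compHom (Fin n) f
  have hsm : ∀ (t : T) (m : Fin n), t • m = f t m := fun _ _ => rfl
  have : Fact (Nat.Prime 2) := ⟨Nat.prime_two⟩
  have h3 := hT.card_modEq_card_fixedPoints (Fin n)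
  have h4 : MulAction.fixedPoints T (Fin n) = ((Γᶜ : Finset (Fin n)) : Set (Fin n)) := by
    ext m
    rw [MulAction.mem_fixedPoints, Finset.mem_coe, Finset.mem_compl]
    constructor
    · intro h5 hm
      obtain ⟨t, ht, h6⟩ := hcon m hm
      apply h6
      have h7 := h5 ⟨t, ht⟩
      rw [hsm] at h7
      have h8 := (hf ⟨t, ht⟩).single m
      rw [h7] at h8
      exact h8
    · intro hm t
      rw [hsm]
      exact acts_fix ev hn (hf t) (h1 t.2) hm
  rw [h4, Nat.card_eq_fintype_card, Fintype.card_fin] at h3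
  have h5 : Nat.card ((Γᶜ : Finset (Fin n)) : Set (Fin n)) = n - Γ.card := by
    rw [Nat.card_coe_set_eq, Set.ncard_coe_finset, Finset.card_compl, Fintype.card_fin]
  rw [h5] at h3
  have h6 : Γ.card ≤ n := by
    have := Finset.card_le_univ Γ
    rwa [Fintype.card_fin] at this
  obtain ⟨c, hc⟩ := hΓ
  have h7 : n % 2 = (n - Γ.card) % 2 := h3
  omega

variable [NeZero n]

/-- a Sylow 2-subgroup of `C_G(V_Γ)` in `N(V)` fixing a given letter of `Γ` (`|Γ|` odd) -/
theorem Ln.exists_syl (h : Ln V ε W) {Γ : Finset (Fin n)} (h0 : 0 ∉ Γ) (hΓ : Odd Γ.card) {k : Fin n} (hk : k ∈ Γ) :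
    ∃ T : Subgroup G, T ≤ YG ε Γ ∧ T ≤ normalizer (V : Set G) ∧ IsPGroup 2 T ∧ ¬ 2 ∣ T.relIndex (YG ε Γ) ∧
      ∀ t ∈ T, t * zz ε k * t⁻¹ = zz ε k := by
  have hn : 3 ≤ n := by have := h.n5; omega
  obtain ⟨T, h1, h2, h3, h4⟩ := h.syl Γ h0
  obtain ⟨c, hc, h5⟩ := exists_fix h.ev hn hΓ h3 h1 h2
  obtain ⟨g, hg, hσ⟩ := h.ev.full (Equiv.swap c k)
  have hgY : g ∈ YG ε Γ := by
    refine mem_YG_of_acts h.ev hσ fun m hm => ?_
    refine Equiv.swap_apply_of_ne_of_ne ?_ ?_
    · rintro rfl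
      exact hm hc
    · rintro rfl
      exact hm hk
  have e1 : (YG ε Γ).map (MulAut.conj g).toMonoidHom = YG ε Γ :=
    mem_normalizer_iff_map_conj_eq.mp (le_normalizer hgY)
  refine ⟨T.map (MulAut.conj g).toMonoidHom, ?_, ?_, h3.map _, ?_, ?_⟩
  · rintro _ ⟨t, ht, rfl⟩
    exact mul_mem (mul_mem hgY (h1 ht)) (inv_mem hgY)
  · rintro _ ⟨t, ht, rfl⟩
    exact mul_mem (mul_mem hg (h2 ht)) (inv_mem hg)
  · rw [← e1, relIndex_map_map_of_injective _ _ (MulAut.conj g).injective]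
    exact h4
  · rintro _ ⟨t, ht, rfl⟩
    change g * t * g⁻¹ * zz ε k * (g * t * g⁻¹)⁻¹ = zz ε k
    have h6 : g * zz ε c * g⁻¹ = zz ε k := by
      have h7 := hσ.single c
      rw [Equiv.swap_apply_left] at h7
      exact h7
    rw [← h6]
    calc g * t * g⁻¹ * (g * zz ε c * g⁻¹) * (g * t * g⁻¹)⁻¹ = g * (t * zz ε c * t⁻¹) * g⁻¹ := by group
      _ = g * zz ε c * g⁻¹ := by rw [h5 t ht]

/-- `C_Y(U_Γ / V_Γ) = C_Y(U_Γ)` -/
theorem Ln.cent_UG (h : Ln V ε W) {Γ : Finset (Fin n)} (hΓ : 3 ≤ Γ.card) {a : G} (ha : a ∈ YG ε Γ)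
    (hc : ∀ x ∈ UG V ε Γ, a * x * a⁻¹ * x⁻¹ ∈ VG ε Γ) : a ∈ centralizer (UG V ε Γ : Set G) := by
  have hn : 3 ≤ n := by have := h.n5; omega
  have key : ∀ y ∈ YG ε Γ, ∀ v ∈ V, a * (y * v * y⁻¹) = y * v * y⁻¹ * a := by
    intro y hy
    set b := y⁻¹ * a * y with hb
    have hbY : b ∈ YG ε Γ := mul_mem (mul_mem (inv_mem hy) ha) hy
    have h1 : ∀ v ∈ V, b * v * b⁻¹ * v⁻¹ ∈ VG ε Γ := by
      intro v hv
      have h2 := hc _ (conj_mem_Cl hy hv)
      obtain ⟨x, hx, he⟩ := (mem_VG h.ev).1 h2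
      have h3 := (mem_YG h.ev).1 (inv_mem hy) x hx
      rw [he] at h3
      have h4 : b * v * b⁻¹ * v⁻¹ =
          y⁻¹ * (a * (y * v * y⁻¹) * a⁻¹ * (y * v * y⁻¹)⁻¹) * y⁻¹⁻¹ := by rw [hb]; group
      rw [h4, h3]
      exact h2
    have h2 : b ∈ normalizer (V : Set G) := by
      refine mem_normalizer_of_map_le ?_
      rintro _ ⟨v, hv, rfl⟩
      change b * v * b⁻¹ ∈ V
      have h3 := mul_mem (VG_le h.ev Γ (h1 v hv)) hv
      rwa [inv_mul_cancel_right] at h3
    obtain ⟨σ, hσ⟩ := h.ev.perm b h2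
    have h3 : σ = 1 := by
      ext m
      congr 1
      change σ m = m
      by_cases hm : m ∈ Γ
      · refine eq_of_mem_VG h.ev hΓ hm ?_
        have h4 := h1 _ (h.ev.mem (Pi.single m 1))
        rw [hσ.single, h.ev.inv] at h4
        exact h4
      · exact acts_fix h.ev hn hσ hbY hm
    subst h3
    have h4 := h.ev.acts_one_iff.1 hσ
    intro v hv
    have h5 := mem_centralizer_iff.1 h4 v hv
    calc a * (y * v * y⁻¹) = y * (b * v) * y⁻¹ := by rw [hb]; group
      _ = y * (v * b) * y⁻¹ := by rw [h5]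
      _ = y * v * y⁻¹ * a := by rw [hb]; group
  rw [mem_centralizer_iff]
  intro x hx
  refine closure_induction (p := fun x _ => x * a = a * x) ?_ ?_ ?_ ?_ hx
  · rintro _ ⟨y, hy, v, hv, rfl⟩
    exact (key y hy v hv).symm
  · rw [one_mul, mul_one]
  · intro x y _ _ h1 h2
    rw [mul_assoc, h2, ← mul_assoc, h1, mul_assoc]
  · intro x _ h1
    have h2 : Commute x a := h1
    exact h2.inv_left

end sylow

section main

variable [Finite G] {n : ℕ} [NeZero n] {V W A : Subgroup G} {ε : (Fin n → ZMod 2) → G}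

/-- `Y_Γ ≤ C(z_0)` -/
theorem Ln.YG_le (h : Ln V ε W) {Γ : Finset (Fin n)} (h0 : 0 ∉ Γ) :
    YG ε Γ ≤ centralizer ({zz ε 0} : Set G) := by
  refine centralizer_le ?_
  rw [Set.singleton_subset_iff]
  exact (mem_VG_iff h.ev).2 (cst_single h0)

theorem Ln.UG_le (h : Ln V ε W) {Γ : Finset (Fin n)} (h0 : 0 ∉ Γ) : UG V ε Γ ≤ W :=
  Cl_le h.VW ((h.YG_le h0).trans h.Wn)

theorem Ln.kY (h : Ln V ε W) {Γ : Finset (Fin n)} (h0 : 0 ∉ Γ) : IsKGroup (YG ε Γ) :=
  ML.Final.kgroup_of_surj h.kg ((YG ε Γ).subgroupOf _) (subgroupOfEquivOfLe (h.YG_le h0)).toMonoidHom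
    (subgroupOfEquivOfLe (h.YG_le h0)).surjective

/-- `{x ∈ W | [x, A] ≤ U}` is a subgroup -/
theorem exists_cm {W U : Subgroup G} (hW : ∀ a ∈ W, ∀ b ∈ W, a * b = b * a) (hU : U ≤ W) (A : Subgroup G) :
    ∃ C : Subgroup G, ∀ x, x ∈ C ↔ x ∈ W ∧ ∀ a ∈ A, a * x * a⁻¹ * x⁻¹ ∈ U := by
  refine ⟨{ carrier := {x | x ∈ W ∧ ∀ a ∈ A, a * x * a⁻¹ * x⁻¹ ∈ U}
            mul_mem' := ?_
            one_mem' := ?_
            inv_mem' := ?_ }, fun x => Iff.rfl⟩
  · rintro x y ⟨hx, hx2⟩ ⟨hy, hy2⟩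
    refine ⟨mul_mem hx hy, fun a ha => ?_⟩
    have h1 := hW _ (hU (hy2 a ha)) _ (inv_mem hx)
    have h2 : a * (x * y) * a⁻¹ * (x * y)⁻¹ = a * x * a⁻¹ * (a * y * a⁻¹ * y⁻¹ * x⁻¹) := by group
    rw [h2, h1, ← mul_assoc]
    exact mul_mem (hx2 a ha) (hy2 a ha)
  · refine ⟨one_mem _, fun a _ => ?_⟩
    have h1 : a * 1 * a⁻¹ * 1⁻¹ = 1 := by group
    rw [h1]
    exact one_mem _
  · rintro x ⟨hx, hx2⟩
    refine ⟨inv_mem hx, fun a ha => ?_⟩
    have h1 := hW _ (inv_mem (hU (hx2 a ha))) _ (inv_mem hx)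
    have h2 : a * x⁻¹ * a⁻¹ * x⁻¹⁻¹ = x⁻¹ * (a * x * a⁻¹ * x⁻¹)⁻¹ * x := by group
    rw [h2, ← h1, inv_mul_cancel_right]
    exact inv_mem (hx2 a ha)

theorem norm_o2 {L : Subgroup G} {g : G} (hg : g ∈ normalizer (L : Set G)) : g ∈ normalizer (o2 L : Set G) := by
  refine mem_normalizer_of_map_le ?_
  refine le_o2 ?_ ((o2_isPGroup L).map _) ?_
  · rintro _ ⟨x, hx, rfl⟩
    exact (mem_normalizer_iff.1 hg x).1 (o2_le L hx)
  · intro l hl
    refine mem_normalizer_of_map_le ?_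
    rintro _ ⟨_, ⟨x, hx, rfl⟩, rfl⟩
    have h1 : g⁻¹ * l * g ∈ L := by
      have := (mem_normalizer_iff.1 (inv_mem hg) l).1 hl
      rwa [inv_inv] at this
    refine ⟨g⁻¹ * l * g * x * (g⁻¹ * l * g)⁻¹, (mem_normalizer_iff.1 (le_normalizer_o2 L h1) x).1 hx, ?_⟩
    change g * (g⁻¹ * l * g * x * (g⁻¹ * l * g)⁻¹) * g⁻¹ = l * (g * x * g⁻¹) * l⁻¹
    group

theorem norm_cent {U : Subgroup G} {g : G} (hg : g ∈ normalizer (U : Set G)) :
    g ∈ normalizer (centralizer (U : Set G) : Set G) := by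
  refine mem_normalizer_of_map_le ?_
  rintro _ ⟨c, hc, rfl⟩
  refine mem_centralizer_iff.2 fun u hu => ?_
  have h1 : g⁻¹ * u * g ∈ U := by
    have := (mem_normalizer_iff.1 (inv_mem hg) u).1 hu
    rwa [inv_inv] at this
  have h2 := mem_centralizer_iff.1 hc _ h1
  change u * (g * c * g⁻¹) = g * c * g⁻¹ * u
  calc u * (g * c * g⁻¹) = g * (g⁻¹ * u * g * c) * g⁻¹ := by group
    _ = g * (c * (g⁻¹ * u * g)) * g⁻¹ := by rw [h2]
    _ = g * c * g⁻¹ * u := by group

/-- `O₂(C_G(V)) ∩ C(U_ij) ≤ O₂(C_G(U_ij))` -/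
theorem le_o2_cent {A : Subgroup G} {U : Subgroup G} (hV : V ≤ U) (hA : A ≤ o2 (centralizer (V : Set G)))
    (hf : A ≤ centralizer (U : Set G)) : A ≤ o2 (centralizer (U : Set G)) := by
  have h1 : o2 (centralizer (V : Set G)) ⊓ centralizer (U : Set G) ≤ o2 (centralizer (U : Set G)) := by
    refine le_o2 inf_le_right ((o2_isPGroup _).to_le inf_le_left) ?_
    intro g hg
    have h2 : g ∈ normalizer (o2 (centralizer (V : Set G)) : Set G) := le_normalizer_o2 _ (centralizer_le hV hg)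
    have h3 : g ∈ normalizer (centralizer (U : Set G) : Set G) := le_normalizer hg
    rw [mem_normalizer_iff]
    intro x
    rw [mem_inf, mem_inf, mem_normalizer_iff.1 h2 x, mem_normalizer_iff.1 h3 x]
  exact (le_inf hA hf).trans h1

/-- **THEOREM R1, step (2)** -/
theorem Ln.two (h : Ln V ε W) (hML : ML.Final.MLK.{u, u}) (hA : A ≤ o2 (centralizer (V : Set G))) (hB : Best W A)
    {i j k : Fin n} (hi : i ≠ 0) (hj : j ≠ 0) (hk : k ≠ 0) (hij : i ≠ j) (hik : i ≠ k) (hjk : j ≠ k)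
    (hf : A ≤ centralizer (UG V ε {i, j} : Set G)) (hm : ¬ A ≤ centralizer (UG V ε {i, k} : Set G)) :
    Goo V ε W A {i, j, k} ∧ W ≤ UG V ε {i, j, k} ⊔ (W ⊓ centralizer (A : Set G)) ∧
      A ⊓ centralizer (UG V ε {i, j, k} : Set G) ≤ centralizer (W : Set G) := by
  set Γ : Finset (Fin n) := {i, j, k} with hΓ
  have h0 : (0 : Fin n) ∉ Γ := by
    rw [hΓ]
    simp only [Finset.mem_insert, Finset.mem_singleton, not_or]
    exact ⟨hi.symm, hj.symm, hk.symm⟩
  have hcard : Γ.card = 3 := Finset.card_eq_three.2 ⟨i, j, k, hij, hik, hjk, rfl⟩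
  have hkΓ : k ∈ Γ := by rw [hΓ]; simp
  have hUW : UG V ε Γ ≤ W := h.UG_le h0
  have hVU : V ≤ UG V ε Γ := le_Cl _ _
  have hYU : YG ε Γ ≤ normalizer (UG V ε Γ : Set G) := le_normalizer_Cl _ _
  have hGV : VG ε Γ ≤ V := VG_le h.ev Γ
  have hAV : A ≤ centralizer (V : Set G) := hA.trans (o2_le _)
  have hAY : A ≤ YG ε Γ := hAV.trans (centralizer_le_YG h.ev Γ)
  obtain ⟨T, hT1, hT2, hT3, hT4, hT5⟩ := h.exists_syl h0 (by rw [hcard]; decide) hkΓ
  have hQV : o2 (centralizer (UG V ε {i, j} : Set G)) ≤ centralizer (V : Set G) :=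
    (o2_le _).trans (centralizer_le (le_Cl _ _))
  have hsq : ∀ x ∈ UG V ε Γ, x * x = 1 := fun x hx => h.Ws x (hUW hx)
  have D : ML.Final.GDat (YG ε Γ) (UG V ε Γ) (VG ε Γ) T (o2 (centralizer (UG V ε {i, j} : Set G))) A (zz ε k) := by
    refine
      { nW := hYU
        nY := ?_
        YW := hGV.trans hVU
        WY := ?_
        sq := ?_
        mem := hVU (h.ev.mem _)
        gen := ?_
        TC := hT1
        two := hT3
        odd := hT4
        fixT := ?_
        QC := hQV.trans (centralizer_le_YG h.ev Γ)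
        Q2 := o2_isPGroup _
        fixQ := ?_
        nrmQ := ?_
        AQ := le_o2_cent (le_Cl _ _) hA hf
        Asq := ?_ }
    · exact centralizer_le_normalizer _
    · intro u hu
      refine centralizer_le_normalizer _ (mem_centralizer_iff.2 fun v hv => ?_)
      exact h.Wc v (h.VW (hGV hv)) u (hUW hu)
    · intro x hx
      rw [hsq x hx]
      exact one_mem _
    · intro S hS1 hS2 hS3
      refine Cl_le ?_ hS3
      obtain ⟨g, hg, hσ⟩ := h.ev.full (Equiv.swap k i)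
      have hgY : g ∈ YG ε Γ := by
        refine mem_YG_of_acts h.ev hσ fun m hm => ?_
        refine Equiv.swap_apply_of_ne_of_ne ?_ ?_
        · rintro rfl
          exact hm hkΓ
        · rintro rfl
          exact hm (by rw [hΓ]; simp)
      refine V_le_of h.ev hij hik hjk ?_ hS1 hS2
      have h7 := hσ.single k
      rw [Equiv.swap_apply_left] at h7
      change ε (Pi.single i 1) ∈ S
      rw [← h7]
      exact (mem_normalizer_iff.1 (hS3 hgY) _).1 hS1
    · intro t ht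
      rw [hT5 t ht, mul_inv_cancel]
      exact one_mem _
    · intro q hq
      have h1 := mem_centralizer_iff.1 (hQV hq) _ (h.ev.mem (Pi.single k 1))
      change q * ε (Pi.single k 1) * q⁻¹ * (ε (Pi.single k 1))⁻¹ ∈ _
      rw [← h1, mul_inv_cancel_right, mul_inv_cancel]
      exact one_mem _
    · intro g hg hgz q hq
      have h1 : g * zz ε k * g⁻¹ ∈ V := by
        have h2 := mul_mem (hGV hgz) (h.ev.mem (Pi.single k 1))
        have h3 : g * zz ε k * g⁻¹ * (zz ε k)⁻¹ * zz ε k = g * zz ε k * g⁻¹ := inv_mul_cancel_right _ _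
        rw [← h3]
        exact h2
      obtain ⟨m, hm⟩ := h.fus k g h1
      have h4 : m = k := by
        refine eq_of_mem_VG h.ev hcard.ge hkΓ ?_
        rw [← hm]
        have h5 : (zz ε k)⁻¹ = zz ε k := h.ev.inv _
        rw [h5] at hgz
        exact hgz
      rw [h4] at hm
      have h5 : g ∈ YG ε {i, j} := mem_YG_pair h.ev hij hik hjk hg hm
      have h6 : g ∈ normalizer (UG V ε {i, j} : Set G) := le_normalizer_Cl _ _ h5
      have h7 : g ∈ normalizer (o2 (centralizer (UG V ε {i, j} : Set G)) : Set G) := norm_o2 (norm_cent h6)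
      exact (mem_normalizer_iff.1 h7 q).1 hq
    · intro a ha x hx
      have h1 := mem_centralizer_iff.1 (hB.el.sq a ha) x (hUW hx)
      have h2 : a * (a * x * a⁻¹) * a⁻¹ * x⁻¹ = a ^ 2 * x * (a ^ 2)⁻¹ * x⁻¹ := by
        rw [pow_two]
        group
      rw [h2, ← h1, mul_inv_cancel_right, mul_inv_cancel]
      exact one_mem _
  set B : Subgroup G := A ⊓ centralizer (UG V ε Γ : Set G) with hBdef
  have hBA : B ≤ A := inf_le_left
  have hWc : ∀ a ∈ UG V ε Γ, ∀ b ∈ UG V ε Γ, a * b = b * a := fun a ha b hb => h.Wc a (hUW ha) b (hUW hb)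
  -- `|A : C_A(U)| ≤ |U : C_U(A)|`
  have key : B.relIndex A ≤ (centralizer (A : Set G)).relIndex (UG V ε Γ) := by
    obtain ⟨CW, hCW⟩ := exists_cm hWc (hGV.trans hVU) A
    have h1 : B.relIndex A ≤ CW.relIndex (UG V ε Γ) := by
      refine hML.grp (h.kY h0) D ?_ hCW
      intro a
      constructor
      · rintro ⟨ha, ha2⟩
        refine ⟨ha, fun x hx => ?_⟩
        rw [← mem_centralizer_iff.1 ha2 x hx, mul_inv_cancel_right, mul_inv_cancel]
        exact one_mem _
      · rintro ⟨ha, ha2⟩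
        exact ⟨ha, h.cent_UG hcard.ge (hAY ha) ha2⟩
    refine h1.trans ?_
    rw [← inf_relIndex_right (centralizer (A : Set G))]
    refine relIndex_le_of_le_left ?_ index_ne_zero_of_finite
    rintro x ⟨hx1, hx2⟩
    refine (hCW x).2 ⟨hx2, fun a ha => ?_⟩
    rw [mem_centralizer_iff.1 hx1 a ha, mul_inv_cancel_right, mul_inv_cancel]
    exact one_mem _
  have hUB : UG V ε Γ ≤ W ⊓ centralizer (B : Set G) := by
    refine le_inf hUW fun u hu => mem_centralizer_iff.2 fun b hb => ?_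
    exact (mem_centralizer_iff.1 hb.2 u hu).symm
  have hlt : B < A := by
    refine lt_of_le_of_ne hBA fun he => hm ?_
    have h1 : A ≤ centralizer (UG V ε Γ : Set G) := by
      rw [← he]
      exact inf_le_right
    refine h1.trans (centralizer_le (UG_mono V ε ?_))
    rw [hΓ]
    intro c hc
    simp only [Finset.mem_insert, Finset.mem_singleton] at hc ⊢
    tauto
  have hWB : A ⊓ centralizer (W : Set G) ≤ B := inf_le_inf_left _ (centralizer_le hUW)
  have heq : A ⊓ centralizer (W : Set G) = B := by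
    rcases hWB.eq_or_lt with h1 | h1
    · exact h1
    · exfalso
      have h2 := hB.min B h1 hlt
      have h3 := relIndex_le_of_le_right (H := centralizer (A : Set G)) hUB index_ne_zero_of_finite
      omega
  have h3 : A ⊓ centralizer (UG V ε Γ : Set G) ≤ centralizer (W : Set G) := by
    rw [← hBdef, ← heq]
    exact inf_le_right
  have h4 : W ≤ UG V ε Γ ⊔ (W ⊓ centralizer (A : Set G)) := by
    set S := W ⊓ centralizer (A : Set G) with hS
    have e1 : S.relIndex W = (centralizer (A : Set G)).relIndex W := by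
      rw [hS, inf_comm, inf_relIndex_right]
    have e2 : S.relIndex (UG V ε Γ) = (centralizer (A : Set G)).relIndex (UG V ε Γ) := by
      rw [← inf_relIndex_right S, ← inf_relIndex_right (centralizer (A : Set G)), hS]
      congr 1
      rw [inf_assoc, inf_comm, inf_assoc, inf_eq_left.2 hUW]
    have e3 : (centralizer (W : Set G)).relIndex A = B.relIndex A := by
      rw [← heq, inf_comm, inf_relIndex_right]
    have e4 := hB.off
    have e5 : S.relIndex (UG V ε Γ) ≤ S.relIndex (UG V ε Γ ⊔ S) :=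
      relIndex_le_of_le_right le_sup_left index_ne_zero_of_finite
    have e6 : S.relIndex (UG V ε Γ ⊔ S) * (UG V ε Γ ⊔ S).relIndex W = S.relIndex W :=
      relIndex_mul_relIndex _ _ _ le_sup_right (sup_le hUW inf_le_left)
    have e7 : 0 < S.relIndex (UG V ε Γ ⊔ S) := Nat.pos_of_ne_zero index_ne_zero_of_finite
    have e8 : (UG V ε Γ ⊔ S).relIndex W ≤ 1 := by
      by_contra hcon
      have h5 : S.relIndex (UG V ε Γ ⊔ S) * 2 ≤ S.relIndex (UG V ε Γ ⊔ S) * (UG V ε Γ ⊔ S).relIndex W :=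
        Nat.mul_le_mul_left _ (by omega)
      omega
    have e9 : (UG V ε Γ ⊔ S).relIndex W ≠ 0 := index_ne_zero_of_finite
    exact relIndex_eq_one.1 (by omega)
  refine ⟨?_, h4, h3⟩
  obtain ⟨C, hC⟩ := exists_cm h.Wc hUW A
  intro a ha w hw
  have h5 : UG V ε Γ ⊔ (W ⊓ centralizer (A : Set G)) ≤ C := by
    refine sup_le ?_ ?_
    · intro u hu
      refine (hC u).2 ⟨hUW hu, fun b hb => ?_⟩
      exact mul_mem ((mem_normalizer_iff.1 (hYU (hAY hb)) u).1 hu) (inv_mem hu)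
    · rintro u ⟨hu, hu2⟩
      refine (hC u).2 ⟨hu, fun b hb => ?_⟩
      rw [mem_centralizer_iff.1 hu2 b hb, mul_inv_cancel_right, mul_inv_cancel]
      exact one_mem _
  exact ((hC w).1 (h5 (h4 hw))).2 a ha

end main

end Cfsg.Agent.Omega.NO3S.SN.R1
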