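import Cfsg.Agent.Omega.NO3S.SN.R1.Two

/-!
# THEOREM R1 (helper430 #22327), step (2): relative form (helper237 #22246, helper695 #24008 (0))

`V_Γ`, `Γ = {i,j,k}`; `Y ≤ C_G(V_Γ)` is any group with `N_G(V) ∩ C_G(V_Γ) ≤ Y` and `C_G(V_ij), C_G(V_ik) ≤ Y` (e.g.
generated by these groups).  `W` is any elementary abelian group normalised by `Y` with `V ≤ W`.

* `YDat` : the data;
* `YDat.cent` : `C_Y(U/V_Γ) = C_Y(U)`, `U = ⟨V^Y⟩`;
* `YDat.off` : for `B ≤ O₂(C_G(V))` centralising `U_ij`, with `B² ≤ C(U)`: `|B : C_B(U)| ≤ |U : C_U(B)|`;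
* `YDat.two` : the conclusion of `Ln.two` for `Cl V Y` in place of `UG V ε Γ`.
-/

set_option autoImplicit false
set_option linter.unusedSectionVars false

namespace Cfsg.Agent.Omega.NO3S.SN.R1

open Subgroup Cfsg Cfsg.Agent.ZN Cfsg.Agent.Omega.S5.Def
open Cfsg.Agent.Omega.FFThm (ElemM)
open Cfsg.Agent.MinSimple.VModule

universe u

variable {G : Type u} [Group G] {n : ℕ}

/-- the data for `Y` -/
structure YDat (V : Subgroup G) (ε : (Fin n → ZMod 2) → G) (W Y : Subgroup G) (i j k : Fin n) : Prop where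
  n5 : 5 ≤ n
  ev : EvenSet n V (normalizer (V : Set G)) ε
  ij : i ≠ j
  ik : i ≠ k
  jk : j ≠ k
  /-- `Y ≤ C_G(V_Γ)` -/
  YV : Y ≤ YG ε {i, j, k}
  /-- `N_G(V) ∩ C_G(V_Γ) ≤ Y` -/
  NY : normalizer (V : Set G) ⊓ YG ε {i, j, k} ≤ Y
  VW : V ≤ W
  YW : Y ≤ normalizer (W : Set G)
  Wc : ∀ a ∈ W, ∀ b ∈ W, a * b = b * a
  Ws : ∀ a ∈ W, a * a = 1
  fus : ∀ g ∈ Y, g * zz ε k * g⁻¹ ∈ V → ∃ m, g * zz ε k * g⁻¹ = zz ε m
  syl : ∃ T : Subgroup G, T ≤ Y ∧ T ≤ normalizer (V : Set G) ∧ IsPGroup 2 T ∧ ¬ 2 ∣ T.relIndex Y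
  kg : IsKGroup Y

section facts

variable [Finite G] {V W Y A B : Subgroup G} {ε : (Fin n → ZMod 2) → G} {i j k : Fin n}

theorem YDat.n3 (h : YDat V ε W Y i j k) : 3 ≤ n := by have := h.n5; omega

theorem YDat.card (h : YDat V ε W Y i j k) : ({i, j, k} : Finset (Fin n)).card = 3 :=
  Finset.card_eq_three.2 ⟨i, j, k, h.ij, h.ik, h.jk, rfl⟩

theorem YDat.UW (h : YDat V ε W Y i j k) : Cl V Y ≤ W := Cl_le h.VW h.YW

/-- a permutation of `{i,j,k}` is induced by an element of `Y` -/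
theorem YDat.exists_acts (h : YDat V ε W Y i j k) {a b : Fin n} (ha : a ∈ ({i, j, k} : Finset (Fin n)))
    (hb : b ∈ ({i, j, k} : Finset (Fin n))) :
    ∃ g ∈ Y, g ∈ normalizer (V : Set G) ∧ Acts ε g (Equiv.swap a b) := by
  obtain ⟨g, hg, hσ⟩ := h.ev.full (Equiv.swap a b)
  refine ⟨g, h.NY ⟨hg, mem_YG_of_acts h.ev hσ fun m hm => ?_⟩, hg, hσ⟩
  refine Equiv.swap_apply_of_ne_of_ne ?_ ?_
  · rintro rfl
    exact hm ha
  · rintro rfl
    exact hm hb

theorem YDat.exists_syl (h : YDat V ε W Y i j k) :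
    ∃ T : Subgroup G, T ≤ Y ∧ T ≤ normalizer (V : Set G) ∧ IsPGroup 2 T ∧ ¬ 2 ∣ T.relIndex Y ∧
      ∀ t ∈ T, t * zz ε k * t⁻¹ = zz ε k := by
  obtain ⟨T, h1, h2, h3, h4⟩ := h.syl
  obtain ⟨c, hc, h5⟩ := exists_fix h.ev h.n3 (by rw [h.card]; decide) h3 (h1.trans h.YV) h2
  obtain ⟨g, hgY, hg, hσ⟩ := h.exists_acts (a := c) (b := k) hc (by simp)
  have e1 : Y.map (MulAut.conj g).toMonoidHom = Y :=
    mem_normalizer_iff_map_conj_eq.mp (le_normalizer hgY)
  refine ⟨T.map (MulAut.conj g).toMonoidHom, ?_, ?_, h3.map _, ?_, ?_⟩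
  · rintro _ ⟨t, ht, rfl⟩
    exact mul_mem (mul_mem hgY (h1 ht)) (inv_mem hgY)
  · rintro _ ⟨t, ht, rfl⟩
    exact mul_mem (mul_mem hg (h2 ht)) (inv_mem hg)
  · intro h6
    rw [← e1, relIndex_map_map_of_injective _ _ (MulAut.conj g).injective] at h6
    exact h4 h6
  · rintro _ ⟨t, ht, rfl⟩
    change g * t * g⁻¹ * zz ε k * (g * t * g⁻¹)⁻¹ = zz ε k
    have h6 : g * zz ε c * g⁻¹ = zz ε k := by
      have h7 := hσ.single c
      rw [Equiv.swap_apply_left] at h7
      exact h7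
    rw [← h6]
    calc g * t * g⁻¹ * (g * zz ε c * g⁻¹) * (g * t * g⁻¹)⁻¹ = g * (t * zz ε c * t⁻¹) * g⁻¹ := by group
      _ = g * zz ε c * g⁻¹ := by rw [h5 t ht]

/-- `C_Y(U / V_Γ) = C_Y(U)` -/
theorem YDat.cent (h : YDat V ε W Y i j k) {a : G} (ha : a ∈ Y)
    (hc : ∀ x ∈ Cl V Y, a * x * a⁻¹ * x⁻¹ ∈ VG ε {i, j, k}) : a ∈ centralizer (Cl V Y : Set G) := by
  have key : ∀ y ∈ Y, ∀ v ∈ V, a * (y * v * y⁻¹) = y * v * y⁻¹ * a := by
    intro y hy
    set b := y⁻¹ * a * y with hb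
    have hbY : b ∈ Y := mul_mem (mul_mem (inv_mem hy) ha) hy
    have h1 : ∀ v ∈ V, b * v * b⁻¹ * v⁻¹ ∈ VG ε {i, j, k} := by
      intro v hv
      have h2 := hc _ (conj_mem_Cl hy hv)
      obtain ⟨x, hx, he⟩ := (mem_VG h.ev).1 h2
      have h3 := (mem_YG h.ev).1 (h.YV (inv_mem hy)) x hx
      rw [he] at h3
      have h4 : b * v * b⁻¹ * v⁻¹ =
          y⁻¹ * (a * (y * v * y⁻¹) * a⁻¹ * (y * v * y⁻¹)⁻¹) * y⁻¹⁻¹ := by rw [hb]; group
      rw [h4, h3]
      exact h2
    have h2 : b ∈ normalizer (V : Set G) := by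
      refine mem_normalizer_of_map_le ?_
      rintro _ ⟨v, hv, rfl⟩
      change b * v * b⁻¹ ∈ V
      have h3 := mul_mem (VG_le h.ev {i, j, k} (h1 v hv)) hv
      rwa [inv_mul_cancel_right] at h3
    obtain ⟨σ, hσ⟩ := h.ev.perm b h2
    have h3 : σ = 1 := by
      ext m
      congr 1
      change σ m = m
      by_cases hm : m ∈ ({i, j, k} : Finset (Fin n))
      · refine eq_of_mem_VG h.ev h.card.ge hm ?_
        have h4 := h1 _ (h.ev.mem (Pi.single m 1))
        rw [hσ.single, h.ev.inv] at h4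
        exact h4
      · exact acts_fix h.ev h.n3 hσ (h.YV hbY) hm
    subst h3
    have h4 := h.ev.acts_one_iff.1 hσ
    intro v hv
    have h5 := mem_centralizer_iff.1 h4 v hv
    calc a * (y * v * y⁻¹) = y * (b * v) * y⁻¹ := by rw [hb]; group
      _ = y * (v * b) * y⁻¹ := by rw [h5]
      _ = y * v * y⁻¹ * a := by rw [hb]; group
  rw [mem_centralizer_iff]
  intro x hx
  refine closure_induction (p := fun x _ => x * a = a * x) ?_ ?_ ?_ ?_ hx
  · rintro _ ⟨y, hy, v, hv, rfl⟩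
    exact (key y hy v hv).symm
  · rw [one_mul, mul_one]
  · intro x y _ _ h1 h2
    rw [mul_assoc, h2, ← mul_assoc, h1, mul_assoc]
  · intro x _ h1
    have h2 : Commute x a := h1
    exact h2.inv_left

/-- the data of (ML) for `Y` on `U / V_Γ`, for `B ≤ O₂(C_G(V))` centralising `U_ij` -/
theorem YDat.gdat (h : YDat V ε W Y i j k) (hB : B ≤ o2 (centralizer (V : Set G)))
    (hf : B ≤ centralizer (UG V ε {i, j} : Set G))
    (hsq : ∀ b ∈ B, b ^ 2 ∈ centralizer (Cl V Y : Set G)) {T : Subgroup G} (hT1 : T ≤ Y) (hT3 : IsPGroup 2 T)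
    (hT4 : ¬ 2 ∣ T.relIndex Y) (hT5 : ∀ t ∈ T, t * zz ε k * t⁻¹ = zz ε k) :
    ML.Final.GDat Y (Cl V Y) (VG ε {i, j, k}) T (o2 (centralizer (UG V ε {i, j} : Set G))) B (zz ε k) := by
  have hGV : VG ε {i, j, k} ≤ V := VG_le h.ev _
  have hVU : V ≤ Cl V Y := le_Cl _ _
  have hQV : o2 (centralizer (UG V ε {i, j} : Set G)) ≤ centralizer (V : Set G) :=
    (o2_le _).trans (centralizer_le (le_Cl _ _))
  have hCY : centralizer (V : Set G) ≤ Y :=
    (le_inf (centralizer_le_normalizer _) (centralizer_le_YG h.ev _)).trans h.NY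
  refine
    { nW := le_normalizer_Cl _ _
      nY := ?_
      YW := hGV.trans hVU
      WY := ?_
      sq := ?_
      mem := hVU (h.ev.mem _)
      gen := ?_
      TC := hT1
      two := hT3
      odd := hT4
      fixT := ?_
      QC := hQV.trans hCY
      Q2 := o2_isPGroup _
      fixQ := ?_
      nrmQ := ?_
      AQ := le_o2_cent (le_Cl _ _) hB hf
      Asq := ?_ }
  · exact h.YV.trans (centralizer_le_normalizer _)
  · intro u hu
    refine centralizer_le_normalizer _ (mem_centralizer_iff.2 fun v hv => ?_)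
    exact h.Wc v (h.VW (hGV hv)) u (h.UW hu)
  · intro x hx
    rw [h.Ws x (h.UW hx)]
    exact one_mem _
  · intro S hS1 hS2 hS3
    refine Cl_le ?_ hS3
    obtain ⟨g, hgY, -, hσ⟩ := h.exists_acts (a := k) (b := i) (by simp) (by simp)
    refine V_le_of h.ev h.ij h.ik h.jk ?_ hS1 hS2
    have h7 := hσ.single k
    rw [Equiv.swap_apply_left] at h7
    change ε (Pi.single i 1) ∈ S
    rw [← h7]
    exact (mem_normalizer_iff.1 (hS3 hgY) _).1 hS1
  · intro t ht
    rw [hT5 t ht, mul_inv_cancel]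
    exact one_mem _
  · intro q hq
    have h1 := mem_centralizer_iff.1 (hQV hq) _ (h.ev.mem (Pi.single k 1))
    change q * ε (Pi.single k 1) * q⁻¹ * (ε (Pi.single k 1))⁻¹ ∈ _
    rw [← h1, mul_inv_cancel_right, mul_inv_cancel]
    exact one_mem _
  · intro g hg hgz q hq
    have h1 : g * zz ε k * g⁻¹ ∈ V := by
      have h2 := mul_mem (hGV hgz) (h.ev.mem (Pi.single k 1))
      have h3 : g * zz ε k * g⁻¹ * (zz ε k)⁻¹ * zz ε k = g * zz ε k * g⁻¹ := inv_mul_cancel_right _ _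
      rw [← h3]
      exact h2
    obtain ⟨m, hm⟩ := h.fus g hg h1
    have h4 : m = k := by
      refine eq_of_mem_VG h.ev h.card.ge (by simp) ?_
      rw [← hm]
      have h5 : (zz ε k)⁻¹ = zz ε k := h.ev.inv _
      rw [h5] at hgz
      exact hgz
    rw [h4] at hm
    have h5 : g ∈ YG ε {i, j} := mem_YG_pair h.ev h.ij h.ik h.jk (h.YV hg) hm
    have h6 : g ∈ normalizer (UG V ε {i, j} : Set G) := le_normalizer_Cl _ _ h5
    exact (mem_normalizer_iff.1 (norm_o2 (norm_cent h6)) q).1 hq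
  · intro a ha x hx
    have h1 := mem_centralizer_iff.1 (hsq a ha) x hx
    have h2 : a * (a * x * a⁻¹) * a⁻¹ * x⁻¹ = a ^ 2 * x * (a ^ 2)⁻¹ * x⁻¹ := by
      rw [pow_two]
      group
    rw [h2, ← h1, mul_inv_cancel_right, mul_inv_cancel]
    exact one_mem _

/-- **(ML) for `Y` on `U / V_Γ`**, strong form: `CW / V_Γ = C_{U/V_Γ}(B)` -/
theorem YDat.offS (h : YDat V ε W Y i j k) (hML : ML.Final.MLK.{u, u}) (hB : B ≤ o2 (centralizer (V : Set G)))
    (hf : B ≤ centralizer (UG V ε {i, j} : Set G)) (hsq : ∀ b ∈ B, b ^ 2 ∈ centralizer (Cl V Y : Set G))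
    {CW : Subgroup G} (hCW : ∀ x, x ∈ CW ↔ x ∈ Cl V Y ∧ ∀ b ∈ B, b * x * b⁻¹ * x⁻¹ ∈ VG ε {i, j, k}) :
    (centralizer (Cl V Y : Set G)).relIndex B ≤ CW.relIndex (Cl V Y) := by
  obtain ⟨T, hT1, -, hT3, hT4, hT5⟩ := h.exists_syl
  have hCY : centralizer (V : Set G) ≤ Y :=
    (le_inf (centralizer_le_normalizer _) (centralizer_le_YG h.ev _)).trans h.NY
  have hBY : B ≤ Y := (hB.trans (o2_le _)).trans hCY
  rw [← inf_relIndex_right]
  refine hML.grp h.kg (h.gdat hB hf hsq hT1 hT3 hT4 hT5) ?_ hCW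
  intro a
  constructor
  · rintro ⟨ha2, ha⟩
    refine ⟨ha, fun x hx => ?_⟩
    rw [← mem_centralizer_iff.1 ha2 x hx, mul_inv_cancel_right, mul_inv_cancel]
    exact one_mem _
  · rintro ⟨ha, ha2⟩
    exact ⟨h.cent (hBY ha) ha2, ha⟩

/-- **(ML) for `Y` on `U / V_Γ`**: `|B : C_B(U)| ≤ |U : C_U(B)|` -/
theorem YDat.off (h : YDat V ε W Y i j k) (hML : ML.Final.MLK.{u, u}) (hB : B ≤ o2 (centralizer (V : Set G)))
    (hf : B ≤ centralizer (UG V ε {i, j} : Set G)) (hsq : ∀ b ∈ B, b ^ 2 ∈ centralizer (Cl V Y : Set G)) :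
    (centralizer (Cl V Y : Set G)).relIndex B ≤ (centralizer (B : Set G)).relIndex (Cl V Y) := by
  have hWc : ∀ a ∈ Cl V Y, ∀ b ∈ Cl V Y, a * b = b * a := fun a ha b hb => h.Wc a (h.UW ha) b (h.UW hb)
  obtain ⟨CW, hCW⟩ := exists_cm hWc ((VG_le h.ev {i, j, k}).trans (le_Cl V Y)) B
  refine (h.offS hML hB hf hsq hCW).trans ?_
  rw [← inf_relIndex_right (centralizer (B : Set G))]
  refine relIndex_le_of_le_left ?_ index_ne_zero_of_finite
  rintro x ⟨hx1, hx2⟩
  refine (hCW x).2 ⟨hx2, fun a ha => ?_⟩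
  rw [mem_centralizer_iff.1 hx1 a ha, mul_inv_cancel_right, mul_inv_cancel]
  exact one_mem _

/-- the index argument: a minimal best offender `A` on `W` which is not an over-offender on `U ≤ W`, moves `U` -/
theorem Best.split {U : Subgroup G} (hUW : U ≤ W) (hA : Best W A) (hm : ¬ A ≤ centralizer (U : Set G))
    (key : (centralizer (U : Set G)).relIndex A ≤ (centralizer (A : Set G)).relIndex U) :
    W ≤ U ⊔ (W ⊓ centralizer (A : Set G)) ∧ A ⊓ centralizer (U : Set G) ≤ centralizer (W : Set G) := by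
  set B : Subgroup G := A ⊓ centralizer (U : Set G) with hBdef
  have hBA : B ≤ A := inf_le_left
  have key' : B.relIndex A ≤ (centralizer (A : Set G)).relIndex U := by
    rw [hBdef, inf_comm, inf_relIndex_right]
    exact key
  have hUB : U ≤ W ⊓ centralizer (B : Set G) := by
    refine le_inf hUW fun u hu => mem_centralizer_iff.2 fun b hb => ?_
    exact (mem_centralizer_iff.1 hb.2 u hu).symm
  have hlt : B < A := by
    refine lt_of_le_of_ne hBA fun he => hm ?_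
    rw [← he]
    exact inf_le_right
  have hWB : A ⊓ centralizer (W : Set G) ≤ B := inf_le_inf_left _ (centralizer_le hUW)
  have heq : A ⊓ centralizer (W : Set G) = B := by
    rcases hWB.eq_or_lt with h1 | h1
    · exact h1
    · exfalso
      have h2 := hA.min B h1 hlt
      have h3 := relIndex_le_of_le_right (H := centralizer (A : Set G)) hUB index_ne_zero_of_finite
      omega
  have h3 : B ≤ centralizer (W : Set G) := by
    rw [← heq]
    exact inf_le_right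
  refine ⟨?_, h3⟩
  set S := W ⊓ centralizer (A : Set G) with hS
  have e1 : S.relIndex W = (centralizer (A : Set G)).relIndex W := by
    rw [hS, inf_comm, inf_relIndex_right]
  have e2 : S.relIndex U = (centralizer (A : Set G)).relIndex U := by
    rw [← inf_relIndex_right S, ← inf_relIndex_right (centralizer (A : Set G)), hS]
    congr 1
    rw [inf_assoc, inf_comm, inf_assoc, inf_eq_left.2 hUW]
  have e3 : (centralizer (W : Set G)).relIndex A = B.relIndex A := by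
    rw [← heq, inf_comm, inf_relIndex_right]
  have e4 := hA.off
  have e5 : S.relIndex U ≤ S.relIndex (U ⊔ S) :=
    relIndex_le_of_le_right le_sup_left index_ne_zero_of_finite
  have e6 : S.relIndex (U ⊔ S) * (U ⊔ S).relIndex W = S.relIndex W :=
    relIndex_mul_relIndex _ _ _ le_sup_right (sup_le hUW inf_le_left)
  have e7 : 0 < S.relIndex (U ⊔ S) := Nat.pos_of_ne_zero index_ne_zero_of_finite
  have e8 : (U ⊔ S).relIndex W ≤ 1 := by
    by_contra hcon
    have h5 : S.relIndex (U ⊔ S) * 2 ≤ S.relIndex (U ⊔ S) * (U ⊔ S).relIndex W :=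
      Nat.mul_le_mul_left _ (by omega)
    omega
  have e9 : (U ⊔ S).relIndex W ≠ 0 := index_ne_zero_of_finite
  exact relIndex_eq_one.1 (by omega)

/-- ... and `A` is exact on `W` -/
theorem Best.exact {U : Subgroup G} (hUW : U ≤ W) (hA : Best W A) (hm : ¬ A ≤ centralizer (U : Set G))
    (key : (centralizer (U : Set G)).relIndex A ≤ (centralizer (A : Set G)).relIndex U) :
    (centralizer (W : Set G)).relIndex A = (centralizer (A : Set G)).relIndex W := by
  have h1 := (hA.split hUW hm key).2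
  have h2 : (centralizer (W : Set G)).relIndex A = (centralizer (U : Set G)).relIndex A := by
    have h5 : centralizer (W : Set G) ⊓ A = centralizer (U : Set G) ⊓ A := by
      refine le_antisymm (inf_le_inf_right _ (centralizer_le hUW)) ?_
      rw [inf_comm]
      exact le_inf h1 inf_le_left
    rw [← inf_relIndex_right (centralizer (W : Set G)), ← inf_relIndex_right (centralizer (U : Set G)), h5]
  have h3 := relIndex_le_of_le_right (H := centralizer (A : Set G)) hUW index_ne_zero_of_finite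
  have h4 := hA.off
  omega

/-- if `W = U C_W(A)`, `A` normalises `U`, then `[W, A] ≤ U` -/
theorem comm_le_of_split {U : Subgroup G} (hWc : ∀ a ∈ W, ∀ b ∈ W, a * b = b * a) (hUW : U ≤ W)
    (hAU : A ≤ normalizer (U : Set G)) (h4 : W ≤ U ⊔ (W ⊓ centralizer (A : Set G))) :
    ∀ a ∈ A, ∀ w ∈ W, a * w * a⁻¹ * w⁻¹ ∈ U := by
  obtain ⟨C, hC⟩ := exists_cm hWc hUW A
  intro a ha w hw
  have h5 : U ⊔ (W ⊓ centralizer (A : Set G)) ≤ C := by
    refine sup_le ?_ ?_
    · intro u hu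
      refine (hC u).2 ⟨hUW hu, fun b hb => ?_⟩
      exact mul_mem ((mem_normalizer_iff.1 (hAU hb) u).1 hu) (inv_mem hu)
    · rintro u ⟨hu, hu2⟩
      refine (hC u).2 ⟨hu, fun b hb => ?_⟩
      rw [mem_centralizer_iff.1 hu2 b hb, mul_inv_cancel_right, mul_inv_cancel]
      exact one_mem _
  exact ((hC w).1 (h5 (h4 hw))).2 a ha

/-- **THEOREM R1, step (2), relative form** -/
theorem YDat.two (h : YDat V ε W Y i j k) (hML : ML.Final.MLK.{u, u}) (hA : A ≤ o2 (centralizer (V : Set G)))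
    (hB : Best W A) (hf : A ≤ centralizer (UG V ε {i, j} : Set G)) (hm : ¬ A ≤ centralizer (Cl V Y : Set G)) :
    (∀ a ∈ A, ∀ w ∈ W, a * w * a⁻¹ * w⁻¹ ∈ Cl V Y) ∧ W ≤ Cl V Y ⊔ (W ⊓ centralizer (A : Set G)) ∧
      A ⊓ centralizer (Cl V Y : Set G) ≤ centralizer (W : Set G) := by
  have hCY : centralizer (V : Set G) ≤ Y :=
    (le_inf (centralizer_le_normalizer _) (centralizer_le_YG h.ev _)).trans h.NY
  have hAY : A ≤ Y := (hA.trans (o2_le _)).trans hCY
  obtain ⟨h4, h3⟩ := hB.split h.UW hm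
    (h.off hML hA hf fun a ha => centralizer_le h.UW (hB.el.sq a ha))
  exact ⟨comm_le_of_split h.Wc h.UW (hAY.trans (le_normalizer_Cl _ _)) h4, h4, h3⟩

/-- ... and `A` is exact on `W` -/
theorem YDat.exact (h : YDat V ε W Y i j k) (hML : ML.Final.MLK.{u, u}) (hA : A ≤ o2 (centralizer (V : Set G)))
    (hB : Best W A) (hf : A ≤ centralizer (UG V ε {i, j} : Set G)) (hm : ¬ A ≤ centralizer (Cl V Y : Set G)) :
    (centralizer (W : Set G)).relIndex A = (centralizer (A : Set G)).relIndex W :=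
  hB.exact h.UW hm (h.off hML hA hf fun a ha => centralizer_le h.UW (hB.el.sq a ha))

end facts

end Cfsg.Agent.Omega.NO3S.SN.R1
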